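import Cfsg.Agent.UGT.Ctl.Frame
import Cfsg.Agent.PermParts.Consumer

/-!
# THEOREM CTL, (IV)

`Ctl.eq_top_of`: `H = G` for a configuration `Ctl H W F` with at least two members, if every involution of `⟨F i⟩` which
centralises two members modulo `W` (four members at least) is only fused into `H` by elements of `H`.
-/

set_option autoImplicit false
set_option linter.dupNamespace false

namespace Cfsg.Agent.UGT.Ctl

open Subgroup

universe u v w

variable {G : Type u} [Group G] {ι : Type w} {H W : Subgroup G} {F : ι → Subgroup G}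

/-- **THEOREM CTL, (IV).** -/
theorem Ctl.eq_top_of [Finite G] [Nontrivial ι] (h : Ctl H W F) (sc2 : ∀ i j k l, i ≠ j → i ≠ k → i ≠ l → j ≠ k →
    j ≠ l → k ≠ l → ∀ u ∈ (⨆ i, F i : Subgroup G), u * u = 1 → u ≠ 1 → (∀ y ∈ F k, u * y * u⁻¹ * y⁻¹ ∈ W) →
    (∀ y ∈ F l, u * y * u⁻¹ * y⁻¹ ∈ W) → ∀ g : G, g * u * g⁻¹ ∈ H → g ∈ H) : H = ⊤ := by
  obtain ⟨S, hS⟩ := h.exists_sylow
  refine h.eq_top_of_comm hS fun i j hij x hx y hy g hg => ?_
  exact Cfsg.Agent.PermParts.Consumer.commutator_mem_of_data (h.data sc2 hS) (fun i => h.rich_inf hS i) hij hx hy hg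

end Cfsg.Agent.UGT.Ctl
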