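import Mathlib
import Cfsg.Agent.OddHalf.D3.Fus
import Cfsg.Agent.Lib.SylowNormalInf
import Cfsg.Agent.UGT.TT.Ctrl

/-!
# Theorem CTL: the configuration

`Ctl H W F`: `F i ≤ H` (`i : ι`) are permuted by `H`, commute pairwise modulo the subgroup `W` of odd order, `W ≤ F i`,
`F i / W` has trivial centre, every `F i` contains two commuting involutions, and every involution of a member `F i` is
only fused into `H` by elements of `H`.

`Ctl.eq_top` (in `Ctl/Main.lean`): if there are at least two members then `H = G`.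
-/

set_option autoImplicit false
set_option linter.style.haveILetI false
set_option linter.dupNamespace false

namespace Cfsg.Agent.UGT.Ctl

open Subgroup Cfsg
open Cfsg.Agent.Lib.GoldschmidtFusion
open Cfsg.Agent.OddHalf.D3.Fus (exists_fix orderOf_eq_two_of_sq sq_of_orderOf ne_one_of_orderOf)
open Cfsg.Agent.UGT.TT (orderOf_conj' exists_pow_orderOf exists_partner)

universe u v w

/-- permuted parts modulo an odd core; fusion is controlled for the involutions of a single part -/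
structure Ctl {G : Type u} [Group G] {ι : Type w} (H W : Subgroup G) (F : ι → Subgroup G) : Prop where
  FH : ∀ i, F i ≤ H
  WF : ∀ i, W ≤ F i
  odd : Odd (Nat.card W)
  nW : ∀ h ∈ H, ∀ x ∈ W, h * x * h⁻¹ ∈ W
  comm : ∀ i j, i ≠ j → ∀ x ∈ F i, ∀ y ∈ F j, x * y * x⁻¹ * y⁻¹ ∈ W
  perm : ∀ h ∈ H, ∀ i, ∃ j, F j = (F i).map (MulAut.conj h).toMonoidHom
  cen : ∀ i, ∀ x ∈ F i, (∀ y ∈ F i, x * y * x⁻¹ * y⁻¹ ∈ W) → x ∈ W
  rich : ∀ i, ∃ a ∈ F i, ∃ b ∈ F i, a * a = 1 ∧ b * b = 1 ∧ a * b = b * a ∧ a ≠ 1 ∧ b ≠ 1 ∧ a ≠ b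
  sc1 : ∀ i, ∀ u ∈ F i, u * u = 1 → u ≠ 1 → ∀ g : G, g * u * g⁻¹ ∈ H → g ∈ H

/-- `u` acts trivially on `A` modulo `W` -/
def Tr {G : Type u} [Group G] (W A : Subgroup G) (u : G) : Prop := ∀ y ∈ A, u * y * u⁻¹ * y⁻¹ ∈ W

namespace Ctl

variable {G : Type u} [Group G] {ι : Type w} {H W : Subgroup G} {F : ι → Subgroup G} (h : Ctl H W F)
include h

theorem nrm {i j : ι} (hij : i ≠ j) {x y : G} (hx : x ∈ F i) (hy : y ∈ F j) : x * y * x⁻¹ ∈ F j := by
  have h1 := h.WF j (h.comm i j hij x hx y hy)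
  have e : x * y * x⁻¹ = (x * y * x⁻¹ * y⁻¹) * y := by group
  rw [e]
  exact (F j).mul_mem h1 hy

theorem conj_self {i j : ι} {x y : G} (hx : x ∈ F i) (hy : y ∈ F j) : x * y * x⁻¹ ∈ F j := by
  by_cases hij : i = j
  · subst hij
    exact (F i).mul_mem ((F i).mul_mem hx hy) ((F i).inv_mem hx)
  · exact h.nrm hij hx hy

/-- the join normalises the members -/
theorem le_normalizer' (j : ι) : (⨆ i, F i : Subgroup G) ≤ normalizer ((F j : Subgroup G) : Set G) := by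
  refine iSup_le fun i x hx => ?_
  rw [mem_normalizer_iff]
  intro y
  refine ⟨fun hy => h.conj_self hx hy, fun hy => ?_⟩
  have h1 := h.conj_self ((F i).inv_mem hx) hy
  have e : x⁻¹ * (x * y * x⁻¹) * x⁻¹⁻¹ = y := by group
  rwa [e] at h1

theorem join_le : (⨆ i, F i : Subgroup G) ≤ H := iSup_le h.FH

/-- `H` normalises the join -/
theorem conj_mem_join {g x : G} (hg : g ∈ H) (hx : x ∈ (⨆ i, F i : Subgroup G)) :
    g * x * g⁻¹ ∈ (⨆ i, F i : Subgroup G) := by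
  have h1 : (⨆ i, F i : Subgroup G) ≤ (⨆ i, F i : Subgroup G).comap (MulAut.conj g).toMonoidHom := by
    refine iSup_le fun i y hy => ?_
    obtain ⟨j, hj⟩ := h.perm g hg i
    have h2 : g * y * g⁻¹ ∈ F j := by rw [hj]; exact ⟨y, hy, rfl⟩
    exact mem_iSup_of_mem j h2
  exact h1 hx

theorem eq_one_of_W [Finite G] {T : Subgroup G} (hT : IsPGroup 2 T) {x : G} (hx : x ∈ T) (hxW : x ∈ W) : x = 1 := by
  obtain ⟨k, hk⟩ := hT ⟨x, hx⟩
  have hk' : x ^ 2 ^ k = 1 := congrArg Subtype.val hk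
  have h1 : orderOf x ∣ 2 ^ k := orderOf_dvd_of_pow_eq_one hk'
  have h2 : orderOf x ∣ Nat.card W := Subgroup.orderOf_dvd_natCard _ hxW
  have h3 : Nat.Coprime (2 ^ k) (Nat.card W) := Nat.Coprime.pow_left _ (Nat.coprime_two_left.mpr h.odd)
  have h4 := Nat.dvd_gcd h1 h2
  rw [h3, Nat.dvd_one, orderOf_eq_one_iff] at h4
  exact h4

theorem eq_one_of_sq {x : G} (hx : x * x = 1) (hxW : x ∈ W) : x = 1 := by
  have h1 : orderOf x ∣ 2 := orderOf_dvd_of_pow_eq_one (by rw [pow_two]; exact hx)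
  have h2 : orderOf x ∣ Nat.card W := Subgroup.orderOf_dvd_natCard _ hxW
  have h4 := Nat.dvd_gcd h1 h2
  rw [Nat.coprime_two_left.mpr h.odd, Nat.dvd_one, orderOf_eq_one_iff] at h4
  exact h4

/-! ### the trivially acting elements -/

omit h in
theorem Tr.mul' (hnW : ∀ g ∈ H, ∀ x ∈ W, g * x * g⁻¹ ∈ W) {A : Subgroup G} {a b : G} (ha : a ∈ H)
    (hta : Tr W A a) (htb : Tr W A b) (hA : ∀ y ∈ A, b * y * b⁻¹ ∈ A) : Tr W A (a * b) := by
  intro y hy
  have e : a * b * y * (a * b)⁻¹ * y⁻¹ = (a * (b * y * b⁻¹) * a⁻¹ * (b * y * b⁻¹)⁻¹) * (b * y * b⁻¹ * y⁻¹) := by group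
  rw [e]
  exact W.mul_mem (hta _ (hA y hy)) (htb y hy)

theorem W_le_H [Nonempty ι] : W ≤ H := (h.WF (Classical.arbitrary ι)).trans (h.FH _)

/-- the elements of `H` acting trivially on `F i / W` -/
def TrS (_h : Ctl H W F) (i : ι) : Subgroup G where
  carrier := {x | x ∈ H ∧ Tr W (F i) x}
  one_mem' := ⟨H.one_mem, fun y _ => by
    have e : (1 : G) * y * 1⁻¹ * y⁻¹ = 1 := by group
    rw [e]; exact W.one_mem⟩
  mul_mem' := by
    rintro a b ⟨ha, hta⟩ ⟨hb, htb⟩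
    refine ⟨H.mul_mem ha hb, fun y hy => ?_⟩
    have e : a * b * y * (a * b)⁻¹ * y⁻¹ = (a * (b * y * b⁻¹ * y⁻¹) * a⁻¹) * (a * y * a⁻¹ * y⁻¹) := by group
    rw [e]
    exact W.mul_mem (_h.nW a ha _ (htb y hy)) (hta y hy)
  inv_mem' := by
    rintro a ⟨ha, hta⟩
    refine ⟨H.inv_mem ha, fun y hy => ?_⟩
    have e : a⁻¹ * y * a⁻¹⁻¹ * y⁻¹ = a⁻¹ * (a * y * a⁻¹ * y⁻¹)⁻¹ * a⁻¹⁻¹ := by group
    rw [e]
    exact _h.nW _ (H.inv_mem ha) _ (W.inv_mem (hta y hy))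

theorem mem_TrS {i : ι} {x : G} : x ∈ TrS h i ↔ x ∈ H ∧ Tr W (F i) x := Iff.rfl

theorem F_le_TrS {i j : ι} (hij : i ≠ j) : F i ≤ TrS h j := fun x hx => ⟨h.FH i hx, fun y hy => h.comm i j hij x hx y hy⟩

theorem W_le_TrS (i : ι) : W ≤ TrS h i := fun x hx => ⟨h.FH i (h.WF i hx), fun y hy => by
  have e : x * y * x⁻¹ * y⁻¹ = x * (y * x⁻¹ * y⁻¹) := by group
  rw [e]
  exact W.mul_mem hx (h.nW y (h.FH i hy) _ (W.inv_mem hx))⟩

theorem mem_W_of_TrS {i : ι} {x : G} (hx : x ∈ F i) (hx' : x ∈ TrS h i) : x ∈ W := h.cen i x hx hx'.2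

theorem iSup_le_TrS {i : ι} : (⨆ j : {j // j ≠ i}, F j.1 : Subgroup G) ≤ TrS h i :=
  iSup_le fun j => h.F_le_TrS j.2

theorem indep {i : ι} {x : G} (hx : x ∈ F i) (hx' : x ∈ (⨆ j : {j // j ≠ i}, F j.1 : Subgroup G)) : x ∈ W :=
  h.mem_W_of_TrS hx (h.iSup_le_TrS hx')

theorem mem_W_of_mem {i j : ι} (hij : i ≠ j) {x : G} (hx : x ∈ F i) (hx' : x ∈ F j) : x ∈ W :=
  h.mem_W_of_TrS hx (h.F_le_TrS hij.symm hx')

theorem injective : Function.Injective F := by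
  intro i j hij
  by_contra hne
  obtain ⟨a, ha, -, -, ha2, -, -, ha1, -, -⟩ := h.rich i
  exact ha1 (h.eq_one_of_sq ha2 (h.mem_W_of_mem hne ha (hij ▸ ha)))

theorem finite [Finite G] : Finite ι := Finite.of_injective F h.injective

section Syl

variable [Finite G]

/-- A Sylow 2-subgroup of `G` in `H`. -/
theorem exists_sylow [Nonempty ι] : ∃ S : Sylow 2 G, (S : Subgroup G) ≤ H := by
  haveI : Fact (Nat.Prime 2) := ⟨Nat.prime_two⟩
  obtain ⟨i0⟩ : Nonempty ι := inferInstance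
  obtain ⟨u, hu, -, -, hu2, -, -, hu1, -, -⟩ := h.rich i0
  have huz : IsPGroup 2 (zpowers u) := Cfsg.Agent.UGT.SL.two_isPGroup hu2
  obtain ⟨T, hT1, hT2, hT3, hT4⟩ := exists_sylow_in (p := 2) (N := H) (D := zpowers u)
    (by rw [zpowers_le]; exact h.FH i0 hu) huz
  have huT : u ∈ T := hT1 (mem_zpowers u)
  obtain ⟨Q, hQ⟩ := hT3.exists_le_sylow
  refine ⟨Q, ?_⟩
  by_cases hTQ : T = (Q : Subgroup G)
  · rw [← hTQ]; exact hT2
  · exfalso
    have hlt : T < (Q : Subgroup G) := lt_of_le_of_ne hQ hTQ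
    have h1 := lt_inf_normalizer Q.isPGroup' hlt
    have h2 : (Q : Subgroup G) ⊓ normalizer (T : Set G) ≤ H := by
      intro g hg
      refine h.sc1 i0 u hu hu2 hu1 g (hT2 ((mem_normalizer_iff.1 hg.2 u).1 huT))
    have h3 : IsPGroup 2 ((Q : Subgroup G) ⊓ normalizer (T : Set G) : Subgroup G) := Q.isPGroup'.to_le inf_le_left
    obtain ⟨n, hn, hnT⟩ := exists_conj_le_in (p := 2) hT3 hT4 h2 h3
    have h4 := Subgroup.card_le_of_le hnT
    rw [card_map_conj] at h4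
    have h5 : Nat.card T < Nat.card ((Q : Subgroup G) ⊓ normalizer (T : Set G) : Subgroup G) :=
      Set.ncard_lt_ncard (by exact_mod_cast h1) (Set.toFinite _)
    omega

/-- A Sylow 2-subgroup of `G` in `H` which contains a given 2-subgroup of `H`. -/
theorem exists_sylow_ge [Nonempty ι] {D : Subgroup G} (hD : D ≤ H) (hD2 : IsPGroup 2 D) :
    ∃ S : Sylow 2 G, (S : Subgroup G) ≤ H ∧ D ≤ (S : Subgroup G) := by
  haveI : Fact (Nat.Prime 2) := ⟨Nat.prime_two⟩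
  obtain ⟨S0, hS0⟩ := h.exists_sylow
  obtain ⟨T, hT1, hT2, hT3, hT4⟩ := exists_sylow_in (p := 2) (N := H) (D := D) hD hD2
  have h1 : ¬ 2 ∣ T.index := by
    intro h2
    rw [← Subgroup.relIndex_mul_index hT2] at h2
    rcases Nat.prime_two.dvd_mul.1 h2 with h3 | h3
    · exact hT4 h3
    · exact S0.not_dvd_index (h3.trans (Subgroup.index_dvd_of_le hS0))
  exact ⟨hT3.toSylow h1, hT2, hT1⟩

theorem exists_sylow_mem [Nonempty ι] {v : G} (hv : v ∈ H) (hv2 : v * v = 1) :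
    ∃ S : Sylow 2 G, (S : Subgroup G) ≤ H ∧ v ∈ (S : Subgroup G) := by
  obtain ⟨S, h1, h2⟩ := h.exists_sylow_ge (D := zpowers v) (by rw [zpowers_le]; exact hv)
    (Cfsg.Agent.UGT.SL.two_isPGroup hv2)
  exact ⟨S, h1, h2 (mem_zpowers v)⟩

/-- 2-subgroups of the members are conjugate into `S`. -/
theorem exists_conj_mem {S : Sylow 2 G} (hS : (S : Subgroup G) ≤ H) {i : ι} {E : Subgroup G} (hE : E ≤ F i)
    (hE2 : IsPGroup 2 E) : ∃ k ∈ F i, ∀ x ∈ E, k * x * k⁻¹ ∈ (S : Subgroup G) := by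
  haveI : Fact (Nat.Prime 2) := ⟨Nat.prime_two⟩
  set J : Subgroup G := ⨆ i, F i with hJ
  have hJH : J ≤ H := h.join_le
  -- the subgroup `S ∩ J` of `J`
  haveI hJn : (J.subgroupOf H).Normal := by
    refine ⟨fun x hx g => ?_⟩
    exact h.conj_mem_join g.2 hx
  have hSH : IsPGroup 2 ((S : Subgroup G).subgroupOf H) :=
    S.isPGroup'.comap_of_injective H.subtype H.subtype_injective
  have hSi : ¬ 2 ∣ ((S : Subgroup G).subgroupOf H).index := by
    intro h1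
    exact S.not_dvd_index (h1.trans (Subgroup.relIndex_dvd_index_of_le hS))
  set SH : Sylow 2 ↥H := hSH.toSylow hSi with hSHd
  have hd1 : ¬ 2 ∣ (SH : Subgroup ↥H).relIndex (J.subgroupOf H) :=
    Cfsg.Agent.Lib.SylowNormalInf.not_dvd_relIndex SH (J.subgroupOf H)
  set SJ : Sylow 2 ↥(J.subgroupOf H) :=
    (Cfsg.Agent.Lib.SylowNormalInf.isPGroup_subgroupOf SH (J.subgroupOf H)).toSylow hd1 with hSJ
  set L : Subgroup G := F i with hLd
  have hLJ : L ≤ J := le_iSup F i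
  haveI hLn : ((L.subgroupOf H).subgroupOf (J.subgroupOf H)).Normal := by
    refine ⟨fun x hx g => ?_⟩
    exact (mem_normalizer_iff.1 (h.le_normalizer' i g.2) _).1 hx
  have hd2 : ¬ 2 ∣ (SJ : Subgroup ↥(J.subgroupOf H)).relIndex ((L.subgroupOf H).subgroupOf (J.subgroupOf H)) :=
    Cfsg.Agent.Lib.SylowNormalInf.not_dvd_relIndex SJ _
  set f : ↥(J.subgroupOf H) →* G := H.subtype.comp (J.subgroupOf H).subtype with hf
  have hfi : Function.Injective f := fun a b hab => Subtype.ext (Subtype.ext hab)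
  have hmapL : ((L.subgroupOf H).subgroupOf (J.subgroupOf H)).map f = L := by
    ext x
    constructor
    · rintro ⟨y, hy, rfl⟩
      exact hy
    · intro hx
      exact ⟨⟨⟨x, hJH (hLJ hx)⟩, hLJ hx⟩, hx, rfl⟩
  have hmapS : (SJ : Subgroup ↥(J.subgroupOf H)).map f ≤ (S : Subgroup G) := by
    rintro _ ⟨y, hy, rfl⟩
    exact hy
  have hd3 : ¬ 2 ∣ ((SJ : Subgroup ↥(J.subgroupOf H)).map f ⊓ L).relIndex L := by
    intro h1
    apply hd2
    rw [Subgroup.inf_relIndex_right] at h1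
    have h2 : ((SJ : Subgroup ↥(J.subgroupOf H)).map f).relIndex
        (((L.subgroupOf H).subgroupOf (J.subgroupOf H)).map f) =
        (SJ : Subgroup ↥(J.subgroupOf H)).relIndex ((L.subgroupOf H).subgroupOf (J.subgroupOf H)) :=
      relIndex_map_map_of_injective _ _ hfi
    rw [hmapL] at h2
    rwa [h2] at h1
  obtain ⟨k, hk, hkE⟩ := exists_conj_le_in (p := 2) (N := L) (R := (SJ : Subgroup ↥(J.subgroupOf H)).map f ⊓ L)
    (S.isPGroup'.to_le (inf_le_left.trans hmapS)) hd3 hE hE2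
  exact ⟨k, hk, fun x hx => hmapS (hkE ⟨x, hx, rfl⟩).1⟩

/-- a four-group of `S ∩ F i` -/
theorem exists_four {S : Sylow 2 G} (hS : (S : Subgroup G) ≤ H) (i : ι) : ∃ a ∈ (S : Subgroup G) ⊓ F i,
    ∃ b ∈ (S : Subgroup G) ⊓ F i, a * a = 1 ∧ b * b = 1 ∧ a * b = b * a ∧ a ≠ 1 ∧ b ≠ 1 ∧ a ≠ b := by
  obtain ⟨a, ha, b, hb, ha2, hb2, hab, ha1, hb1, hne⟩ := h.rich i
  have hE : IsPGroup 2 (closure ({a, b} : Set G)) := by
    apply Cfsg.Agent.UGT.TT.isPGroup_closure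
    · rintro x (rfl | rfl)
      · exact ha2
      · exact hb2
    · rintro x (rfl | rfl) y (rfl | rfl)
      · rfl
      · exact hab
      · exact hab.symm
      · rfl
  obtain ⟨k, hk, hkS⟩ := h.exists_conj_mem hS (i := i) (E := closure ({a, b} : Set G)) (by
    rw [closure_le]
    rintro x (rfl | rfl)
    · exact ha
    · exact hb) hE
  have hF : ∀ c ∈ F i, k * c * k⁻¹ ∈ F i := fun c hc => (F i).mul_mem ((F i).mul_mem hk hc) ((F i).inv_mem hk)
  have hm : ∀ c d : G, (k * c * k⁻¹) * (k * d * k⁻¹) = k * (c * d) * k⁻¹ := fun c d => by group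
  have hone : ∀ c : G, k * c * k⁻¹ = 1 → c = 1 := fun c hc => by
    have e : c = k⁻¹ * (k * c * k⁻¹) * k := by group
    rw [e, hc]; group
  refine ⟨k * a * k⁻¹, mem_inf.2 ⟨hkS a (subset_closure (by simp)), hF a ha⟩, k * b * k⁻¹,
    mem_inf.2 ⟨hkS b (subset_closure (by simp)), hF b hb⟩, ?_, ?_, ?_, ?_, ?_, ?_⟩
  · rw [hm, ha2]; group
  · rw [hm, hb2]; group
  · rw [hm, hm, hab]
  · exact fun e => ha1 (hone a e)
  · exact fun e => hb1 (hone b e)
  · intro h1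
    apply hne
    have e : ∀ c : G, c = k⁻¹ * (k * c * k⁻¹) * k := fun c => by group
    rw [e a, h1, ← e b]

/-- two commuting involutions of `S ∩ F i` -/
theorem exists_two {S : Sylow 2 G} (hS : (S : Subgroup G) ≤ H) (i : ι) : ∃ a ∈ (S : Subgroup G) ⊓ F i,
    ∃ b ∈ (S : Subgroup G) ⊓ F i, orderOf a = 2 ∧ orderOf b = 2 ∧ a ≠ b := by
  obtain ⟨a, ha, b, hb, ha2, hb2, -, ha1, hb1, hab⟩ := h.exists_four hS i
  exact ⟨a, ha, b, hb, orderOf_eq_two_of_sq ha2 ha1, orderOf_eq_two_of_sq hb2 hb1, hab⟩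

theorem inf_ne_bot {S : Sylow 2 G} (hS : (S : Subgroup G) ≤ H) (i : ι) : (S : Subgroup G) ⊓ F i ≠ ⊥ := by
  obtain ⟨a, ha, -, -, oa, -⟩ := h.exists_two hS i
  intro h1
  rw [h1, mem_bot] at ha
  exact ne_one_of_orderOf oa ha

theorem rich_inf {S : Sylow 2 G} (hS : (S : Subgroup G) ≤ H) (i : ι) : ∀ x ∈ (S : Subgroup G) ⊓ F i, orderOf x = 2 →
    ∃ y ∈ (S : Subgroup G) ⊓ F i, orderOf y = 2 ∧ y ≠ x ∧ x * y = y * x := by
  obtain ⟨a, ha, b, hb, oa, ob, hab⟩ := h.exists_two hS i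
  intro x hx ox
  exact exists_partner (P := (S : Subgroup G) ⊓ F i) (S.isPGroup'.to_le inf_le_left) ha hb oa ob hab hx ox

omit h [Finite G] in
theorem mem_map_conj {A : Subgroup G} {g x : G} : x ∈ A.map (MulAut.conj g).toMonoidHom ↔ g⁻¹ * x * g ∈ A :=
  Cfsg.Agent.UGT.TT.Ctrl.mem_map_conj

/-- elements of `S` in different members commute -/
theorem comm_of_mem {S : Sylow 2 G} {i j : ι} (hij : i ≠ j) {a b : G} (ha : a ∈ (S : Subgroup G)) (haF : a ∈ F i)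
    (hb : b ∈ (S : Subgroup G)) (hbF : b ∈ F j) : a * b = b * a := by
  have h1 := h.comm i j hij a haF b hbF
  have h2 : a * b * a⁻¹ * b⁻¹ ∈ (S : Subgroup G) := mul_mem (mul_mem (mul_mem ha hb) (inv_mem ha)) (inv_mem hb)
  have h3 := h.eq_one_of_W S.isPGroup' h2 h1
  calc a * b = (a * b * a⁻¹ * b⁻¹) * b * a := by group
    _ = b * a := by rw [h3, one_mul]

theorem inf_injective {S : Sylow 2 G} (hS : (S : Subgroup G) ≤ H) {i j : ι}
    (hij : (S : Subgroup G) ⊓ F i = (S : Subgroup G) ⊓ F j) : i = j := by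
  by_contra hne
  obtain ⟨a, ha, -, -, oa, -⟩ := h.exists_two hS i
  have h1 : a ∈ F j := by
    have := ha
    rw [hij] at this
    exact this.2
  exact ne_one_of_orderOf oa (h.eq_one_of_W S.isPGroup' ha.1 (h.mem_W_of_mem hne ha.2 h1))

end Syl

end Ctl

end Cfsg.Agent.UGT.Ctl
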