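import Mathlib
import Cfsg.Agent.UGT.Ctl.Basic
import Cfsg.Agent.Lib.ProductSet

/-!
# Theorem CTL: restriction to a subgroup

* `exists_comm_of_tr`: the centralizer of an involution covers the members on which it acts trivially;
* `Ctl.mem_W_of_join`: an element of the join which acts trivially on all members lies in `W`;
* `Ctl.restrict`: the configuration restricts to a subgroup `K`, with the members covered by `K`.
-/

set_option autoImplicit false
set_option linter.style.haveILetI false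
set_option linter.dupNamespace false

namespace Cfsg.Agent.UGT.Ctl

open Subgroup Cfsg
open Cfsg.Agent.Lib.GoldschmidtFusion

universe u v w

section

variable {G : Type u} [Group G]

/-- `u` an involution normalising the subgroup `W` of odd order, `y` centralises `u` mod `W`: then `yW` contains an
element of the centralizer of `u` -/
theorem exists_comm_of_tr {W : Subgroup G} (odd : Odd (Nat.card W)) {u y : G} (u2 : u * u = 1)
    (hu : ∀ x ∈ W, u * x * u⁻¹ ∈ W) (hy : ∀ x ∈ W, y⁻¹ * x * y ∈ W) (h : u * y * u⁻¹ * y⁻¹ ∈ W) :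
    ∃ w ∈ W, (y * w) * u = u * (y * w) := by
  have ui : u⁻¹ = u := by rw [inv_eq_iff_mul_eq_one]; exact u2
  -- `y⁻¹ u y = u w0`
  set w0 : G := u⁻¹ * y⁻¹ * u * y with hw0
  have hw0W : w0 ∈ W := by
    have h1 := hy _ h
    have h2 := hu _ h1
    have e : u * (y⁻¹ * (u * y * u⁻¹ * y⁻¹) * y) * u⁻¹ = w0 := by
      rw [hw0, ui]
      have : u * (y⁻¹ * (u * y * u * y⁻¹) * y) * u = u * y⁻¹ * u * y * (u * u) := by group
      rw [this, u2, mul_one]
    rwa [e] at h2
  have e1 : y⁻¹ * u * y = u * w0 := by rw [hw0]; group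
  have e2 : (u * w0) * (u * w0) = 1 := by
    rw [← e1]
    have : y⁻¹ * u * y * (y⁻¹ * u * y) = y⁻¹ * (u * u) * y := by group
    rw [this, u2]; group
  have e3 : u * w0 * u⁻¹ = w0⁻¹ := by
    rw [ui, eq_inv_iff_mul_eq_one]
    rw [← e2]; group
  obtain ⟨m, hm⟩ := odd
  set w1 : G := w0 ^ (m + 1) with hw1
  have hw1W : w1 ∈ W := W.pow_mem hw0W _
  have e4 : w1 * w1 = w0 := by
    have h1 : w0 ^ Nat.card W = 1 := by
      have := pow_card_eq_one' (G := W) (x := ⟨w0, hw0W⟩)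
      exact congrArg Subtype.val this
    rw [hw1, ← pow_add]
    have : m + 1 + (m + 1) = Nat.card W + 1 := by rw [hm]; ring
    rw [this, pow_succ, h1, one_mul]
  have e5 : u * w1 * u⁻¹ = w1⁻¹ := by
    rw [hw1, ← conj_pow, e3, inv_pow]
  have e6 : w1⁻¹ * u * w1 = u * w0 := by
    rw [← e5, ui]
    have : u * w1 * u * u * w1 = u * w1 * (u * u) * w1 := by group
    rw [this, u2, mul_one, mul_assoc, e4]
  refine ⟨w1⁻¹, W.inv_mem hw1W, ?_⟩
  have e7 : w1⁻¹ * u * w1 = y⁻¹ * u * y := by rw [e6, e1]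
  calc y * w1⁻¹ * u = y * (w1⁻¹ * u * w1) * w1⁻¹ := by group
    _ = y * (y⁻¹ * u * y) * w1⁻¹ := by rw [e7]
    _ = u * (y * w1⁻¹) := by group

end

/-- `K` covers `F i / W` -/
def Cov {G : Type u} [Group G] {ι : Type w} (W : Subgroup G) (F : ι → Subgroup G) (K : Subgroup G) (i : ι) : Prop :=
  ∀ x ∈ F i, ∃ w ∈ W, x * w ∈ K

namespace Ctl

variable {G : Type u} [Group G] {ι : Type w} {H W : Subgroup G} {F : ι → Subgroup G} (h : Ctl H W F)
include h

theorem cov_centralizer {u : G} (hu : u ∈ H) (u2 : u * u = 1) {i : ι} (ht : Tr W (F i) u) :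
    Cov W F (centralizer {u}) i := by
  intro x hx
  obtain ⟨w, hw, hc⟩ := exists_comm_of_tr h.odd u2 (h.nW u hu) (y := x) (fun z hz => by
    have := h.nW x⁻¹ (H.inv_mem (h.FH i hx)) z hz
    rwa [inv_inv] at this) (ht x hx)
  refine ⟨w, hw, ?_⟩
  rw [mem_centralizer_iff]
  rintro y rfl
  exact hc.symm

/-- an element of the join acting trivially on all members lies in `W` -/
theorem mem_W_of_finset [DecidableEq ι] (s : Finset ι) : ∀ x ∈ (⨆ i ∈ s, F i : Subgroup G),
    (∀ i ∈ s, x ∈ TrS h i) → s.Nonempty → x ∈ W := by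
  induction s using Finset.induction_on with
  | empty => intro x _ _ hs; exact absurd hs Finset.not_nonempty_empty
  | insert i t hit ih =>
    intro x hx hT _
    rw [Finset.iSup_insert] at hx
    have hle : (⨆ j ∈ t, F j : Subgroup G) ≤ TrS h i := by
      refine iSup₂_le fun j hj => h.F_le_TrS ?_
      rintro rfl
      exact hit hj
    have hn : (⨆ j ∈ t, F j : Subgroup G) ≤ normalizer (F i : Set G) :=
      (iSup₂_le fun j hj => le_iSup F j).trans (h.le_normalizer' i)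
    have hx' : x ∈ ((F i ⊔ (⨆ j ∈ t, F j) : Subgroup G) : Set G) := hx
    rw [coe_mul_of_right_le_normalizer_left _ _ hn] at hx'
    obtain ⟨a, ha, b, hb, hab⟩ := hx'
    replace hab : a * b = x := hab
    subst hab
    replace ha : a ∈ F i := ha
    replace hb : b ∈ (⨆ j ∈ t, F j : Subgroup G) := hb
    have hb' := hle hb
    have ha' : a ∈ TrS h i := by
      have := (TrS h i).mul_mem (hT i (Finset.mem_insert_self i t)) ((TrS h i).inv_mem hb')
      rwa [mul_inv_cancel_right] at this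
    have haW : a ∈ W := h.mem_W_of_TrS ha ha'
    by_cases ht : t.Nonempty
    · refine W.mul_mem haW (ih b hb (fun j hj => ?_) ht)
      have h1 := hT j (Finset.mem_insert_of_mem hj)
      have := (TrS h j).mul_mem ((TrS h j).inv_mem (h.W_le_TrS j haW)) h1
      rwa [inv_mul_cancel_left] at this
    · rw [Finset.not_nonempty_iff_eq_empty] at ht
      subst ht
      have hb1 : b = 1 := by simpa using hb
      subst hb1
      change a * 1 ∈ W
      rw [mul_one]; exact haW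

theorem mem_W_of_join [Finite G] [Nonempty ι] {x : G} (hx : x ∈ (⨆ i, F i : Subgroup G)) (ht : ∀ i, Tr W (F i) x) :
    x ∈ W := by
  classical
  haveI := h.finite
  haveI := Fintype.ofFinite ι
  refine h.mem_W_of_finset Finset.univ x ?_ (fun i _ => ⟨h.join_le hx, ht i⟩) Finset.univ_nonempty
  simpa using hx

/-! ### restriction -/

theorem not_dvd_relIndex_of_cov [Finite G] {K : Subgroup G} {i : ι} (hK : Cov W F K i) : ¬ 2 ∣ K.relIndex (F i) := by
  intro h2
  have h1 : Nat.card ↥(F i) * Nat.card (K.subgroupOf (F i) ⊓ W.subgroupOf (F i) : Subgroup ↥(F i)) =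
      Nat.card (K.subgroupOf (F i)) * Nat.card (W.subgroupOf (F i)) := by
    refine Cfsg.Agent.Lib.ProductSet.card_mul_card_inf_of_factorization fun g => ?_
    obtain ⟨w, hw, hk⟩ := hK g g.2
    refine ⟨⟨g * w, (F i).mul_mem g.2 (h.WF i hw)⟩, hk, ⟨w⁻¹, h.WF i (W.inv_mem hw)⟩, W.inv_mem hw, ?_⟩
    apply Subtype.ext
    change (g : G) = g * w * w⁻¹
    group
  have h3 : Nat.card (K.subgroupOf (F i)) * K.relIndex (F i) = Nat.card ↥(F i) :=
    (K.subgroupOf (F i)).card_mul_index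
  have h4 : Nat.card (W.subgroupOf (F i)) = Nat.card W :=
    Nat.card_congr (Subgroup.subgroupOfEquivOfLe (h.WF i)).toEquiv
  rw [h4, ← h3, mul_assoc] at h1
  have h5 := Nat.eq_of_mul_eq_mul_left Nat.card_pos h1
  have h6 : K.relIndex (F i) ∣ Nat.card W := Dvd.intro _ h5
  have h7 := h2.trans h6
  exact (Nat.not_even_iff_odd.2 h.odd) (even_iff_two_dvd.2 h7)

/-- the four-group of a covered member -/
theorem rich_of_cov [Finite G] {K : Subgroup G} {i : ι} (hK : Cov W F K i) :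
    ∃ a ∈ K ⊓ F i, ∃ b ∈ K ⊓ F i, a * a = 1 ∧ b * b = 1 ∧ a * b = b * a ∧ a ≠ 1 ∧ b ≠ 1 ∧ a ≠ b := by
  haveI : Fact (Nat.Prime 2) := ⟨Nat.prime_two⟩
  obtain ⟨a, ha, b, hb, ha2, hb2, hab, ha1, hb1, hne⟩ := h.rich i
  obtain ⟨R, -, hR2, hR3, hR4⟩ := exists_sylow_in (p := 2) (N := K ⊓ F i) (D := ⊥) bot_le IsPGroup.of_bot
  have hRi : ¬ 2 ∣ R.relIndex (F i) := by
    have h1 := relIndex_inf_mul_relIndex R K (F i)
    rw [inf_of_le_left (hR2.trans inf_le_left)] at h1
    rw [← h1]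
    intro h2
    rcases Nat.prime_two.dvd_mul.1 h2 with h3 | h3
    · exact hR4 h3
    · exact h.not_dvd_relIndex_of_cov hK h3
  have hE : IsPGroup 2 (closure ({a, b} : Set G)) := by
    apply Cfsg.Agent.UGT.TT.isPGroup_closure
    · rintro x (rfl | rfl)
      · exact ha2
      · exact hb2
    · rintro x (rfl | rfl) y (rfl | rfl)
      · rfl
      · exact hab
      · exact hab.symm
      · rfl
  obtain ⟨k, hk, hkE⟩ := exists_conj_le_in (p := 2) hR3 hRi (D := closure ({a, b} : Set G)) (by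
    rw [closure_le]
    rintro x (rfl | rfl)
    · exact ha
    · exact hb) hE
  have hm : ∀ c d : G, (k * c * k⁻¹) * (k * d * k⁻¹) = k * (c * d) * k⁻¹ := fun c d => by group
  have hone : ∀ c : G, k * c * k⁻¹ = 1 → c = 1 := fun c hc => by
    have e : c = k⁻¹ * (k * c * k⁻¹) * k := by group
    rw [e, hc]; group
  have hmem : ∀ c ∈ ({a, b} : Set G), k * c * k⁻¹ ∈ K ⊓ F i := fun c hc =>
    hR2 (hkE ⟨c, subset_closure hc, rfl⟩)
  refine ⟨k * a * k⁻¹, hmem a (by simp), k * b * k⁻¹, hmem b (by simp), ?_, ?_, ?_, ?_, ?_, ?_⟩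
  · rw [hm, ha2]; group
  · rw [hm, hb2]; group
  · rw [hm, hm, hab]
  · exact fun e => ha1 (hone a e)
  · exact fun e => hb1 (hone b e)
  · intro h1
    apply hne
    have e : ∀ c : G, c = k⁻¹ * (k * c * k⁻¹) * k := fun c => by group
    rw [e a, h1, ← e b]

/-- the configuration of the subgroup `K` -/
theorem restrict [Finite G] (K : Subgroup G) :
    Ctl (H.subgroupOf K) (W.subgroupOf K) (fun i : {i // Cov W F K i} => (F i.1).subgroupOf K) where
  FH i x hx := h.FH i.1 hx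
  WF i x hx := h.WF i.1 hx
  odd := by
    have h1 : Nat.card (W.subgroupOf K) ∣ Nat.card W :=
      Subgroup.card_comap_dvd_of_injective W K.subtype K.subtype_injective
    exact Odd.of_dvd_nat h.odd h1
  nW g hg x hx := h.nW g.1 hg x.1 hx
  comm i j hij x hx y hy := h.comm i.1 j.1 (fun e => hij (Subtype.ext e)) x.1 hx y.1 hy
  perm g hg i := by
    obtain ⟨j, hj⟩ := h.perm g.1 hg i.1
    have hjK : Cov W F K j := by
      intro x hx
      rw [hj, Cfsg.Agent.UGT.TT.Ctrl.mem_map_conj] at hx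
      obtain ⟨w, hw, hk⟩ := i.2 _ hx
      refine ⟨g.1 * w * g.1⁻¹, h.nW g.1 hg w hw, ?_⟩
      have e : x * (g.1 * w * g.1⁻¹) = g.1 * (g.1⁻¹ * x * g.1 * w) * g.1⁻¹ := by group
      rw [e]
      exact K.mul_mem (K.mul_mem g.2 hk) (K.inv_mem g.2)
    refine ⟨⟨j, hjK⟩, ?_⟩
    ext x
    rw [Cfsg.Agent.UGT.TT.Ctrl.mem_map_conj, mem_subgroupOf, mem_subgroupOf, hj,
      Cfsg.Agent.UGT.TT.Ctrl.mem_map_conj]
    rfl
  cen i x hx ht := by
    refine h.cen i.1 x.1 hx fun y hy => ?_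
    obtain ⟨w, hw, hk⟩ := i.2 y hy
    have h1 := ht ⟨y * w, hk⟩ ((F i.1).mul_mem hy (h.WF i.1 hw))
    have h2 : x.1 * (y * w) * x.1⁻¹ * (y * w)⁻¹ ∈ W := h1
    have hxH : x.1 ∈ H := h.FH _ hx
    have hyH : y ∈ H := h.FH _ hy
    have e : x.1 * y * x.1⁻¹ * y⁻¹ = (x.1 * (y * w) * x.1⁻¹ * (y * w)⁻¹) * (y * (w * (x.1 * w⁻¹ * x.1⁻¹)) * y⁻¹) := by
      group
    rw [e]
    exact W.mul_mem h2 (h.nW y hyH _ (W.mul_mem hw (h.nW x.1 hxH _ (W.inv_mem hw))))
  rich i := by
    obtain ⟨a, ha, b, hb, ha2, hb2, hab, ha1, hb1, hne⟩ := h.rich_of_cov i.2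
    refine ⟨⟨a, ha.1⟩, ha.2, ⟨b, hb.1⟩, hb.2, Subtype.ext ha2, Subtype.ext hb2, Subtype.ext hab, ?_, ?_, ?_⟩
    · exact fun e => ha1 (congrArg Subtype.val e)
    · exact fun e => hb1 (congrArg Subtype.val e)
    · exact fun e => hne (congrArg Subtype.val e)
  sc1 i u hu hu2 hu1 g hg :=
    h.sc1 i.1 u.1 hu (congrArg Subtype.val hu2) (fun e => hu1 (Subtype.ext e)) g.1 hg

end Ctl

end Cfsg.Agent.UGT.Ctl
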