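import Mathlib
import Cfsg.Agent.UGT.Ctl.Cov

/-!
# Theorem CTL: involutions acting trivially on two members

Assume that every proper subgroup which covers two members lies in `H` (this is (I) in the inductive proof of
`Ctl.eq_top`).

* `Ctl.centralizer_mem`: the centralizer of an involution `u` of the join which acts trivially on two members lies in
  `H`;
* `Ctl.sc2`: if there are at least four members, such an involution is only fused into `H` by elements of `H`.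
-/

set_option autoImplicit false
set_option linter.style.haveILetI false
set_option linter.dupNamespace false

namespace Cfsg.Agent.UGT.Ctl

open Subgroup Cfsg
open Cfsg.Agent.Lib.GoldschmidtFusion
open Cfsg.Agent.OddHalf.D3.Fus (exists_fix orderOf_eq_two_of_sq sq_of_orderOf ne_one_of_orderOf)

universe u v w

/-- two further members among four -/
theorem exists_two_ne {ι : Type w} {i j k l : ι} (hij : i ≠ j) (hik : i ≠ k) (hil : i ≠ l)
    (hjk : j ≠ k) (hjl : j ≠ l) (hkl : k ≠ l) (a b : ι) :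
    ∃ c d : ι, c ≠ d ∧ c ≠ a ∧ c ≠ b ∧ d ≠ a ∧ d ≠ b := by
  classical
  have h1 : 4 ≤ ({i, j, k, l} : Finset ι).card := by
    rw [Finset.card_insert_of_notMem, Finset.card_insert_of_notMem, Finset.card_insert_of_notMem,
      Finset.card_singleton]
    · simp [hkl]
    · simp [hjk, hjl]
    · simp [hij, hik, hil]
  have h2 : 2 ≤ (({i, j, k, l} : Finset ι) \ {a, b}).card := by
    have h3 := Finset.le_card_sdiff ({a, b} : Finset ι) ({i, j, k, l} : Finset ι)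
    have h4 : ({a, b} : Finset ι).card ≤ 2 := Finset.card_le_two
    omega
  obtain ⟨c, hc, d, hd, hcd⟩ := Finset.one_lt_card.1 (show 1 < _ from h2)
  have hm : ∀ x ∈ (({i, j, k, l} : Finset ι) \ {a, b}), x ≠ a ∧ x ≠ b := by
    intro x hx
    have := (Finset.mem_sdiff.1 hx).2
    rw [Finset.mem_insert, Finset.mem_singleton, not_or] at this
    exact this
  exact ⟨c, d, hcd, (hm c hc).1, (hm c hc).2, (hm d hd).1, (hm d hd).2⟩

namespace Ctl

variable {G : Type u} [Group G] {ι : Type w} {H W : Subgroup G} {F : ι → Subgroup G} (h : Ctl H W F)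
include h

/-- (II) -/
theorem centralizer_mem [Finite G] (hI : ∀ K : Subgroup G, K ≠ ⊤ → ∀ i j, i ≠ j → Cov W F K i → Cov W F K j → K ≤ H)
    {u : G} (hu : u ∈ (⨆ i, F i : Subgroup G)) (u2 : u * u = 1) (u1 : u ≠ 1) {k l : ι} (hkl : k ≠ l)
    (hk : Tr W (F k) u) (hl : Tr W (F l) u) {c : G} (hc : c * u = u * c) : c ∈ H := by
  haveI : Nonempty ι := ⟨k⟩
  have huH := h.join_le hu
  have hK : (centralizer {u} : Subgroup G) ≠ ⊤ := by
    intro htop
    apply u1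
    refine h.eq_one_of_sq u2 (h.mem_W_of_join hu fun i y _ => ?_)
    have hy : y ∈ (centralizer {u} : Subgroup G) := by rw [htop]; exact mem_top y
    rw [mem_centralizer_iff] at hy
    have e : u * y * u⁻¹ * y⁻¹ = 1 := by
      rw [hy u rfl]; group
    rw [e]; exact W.one_mem
  have := hI _ hK k l hkl (h.cov_centralizer huH u2 hk) (h.cov_centralizer huH u2 hl)
  refine this ?_
  rw [mem_centralizer_iff]
  rintro y rfl
  exact hc.symm

/-- an involution of `H` normalising `F i` commutes with an involution of `F i` -/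
theorem exists_inv_comm [Finite G] {v : G} (hv : v ∈ H) (v2 : v * v = 1) {i : ι} (hvi : ∀ x ∈ F i, v * x * v⁻¹ ∈ F i) :
    ∃ e ∈ F i, e * e = 1 ∧ e ≠ 1 ∧ v * e = e * v := by
  haveI : Nonempty ι := ⟨i⟩
  obtain ⟨S, hS, hvS⟩ := h.exists_sylow_mem hv v2
  obtain ⟨e, he, oe, hce⟩ := exists_fix (S := (S : Subgroup G)) (X := zpowers v) (D := (S : Subgroup G) ⊓ F i)
    S.isPGroup' (by rw [zpowers_le]; exact hvS) inf_le_left (h.inf_ne_bot hS i) (by
      have h1 : zpowers v ≤ normalizer (((S : Subgroup G) ⊓ F i : Subgroup G) : Set G) := by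
        rw [zpowers_le, mem_normalizer_iff]
        have hone : ∀ x ∈ (S : Subgroup G) ⊓ F i, v * x * v⁻¹ ∈ (S : Subgroup G) ⊓ F i := fun x hx =>
          mem_inf.2 ⟨mul_mem (mul_mem hvS hx.1) (inv_mem hvS), hvi x hx.2⟩
        intro x
        refine ⟨hone x, fun hx => ?_⟩
        have h2 := hone _ hx
        have vi : v⁻¹ = v := by rw [inv_eq_iff_mul_eq_one]; exact v2
        have e : v * (v * x * v⁻¹) * v⁻¹ = x := by
          rw [vi]
          have : v * (v * x * v) * v = (v * v) * x * (v * v) := by group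
          rw [this, v2]; group
        rwa [e] at h2
      intro x hx d hd
      exact (mem_normalizer_iff.1 (h1 hx) d).1 hd)
  exact ⟨e, he.2, sq_of_orderOf oe, ne_one_of_orderOf oe, hce v (mem_zpowers v)⟩

/-- `x` maps `F i` into `F j` -/
theorem exists_move {x : G} (hx : x ∈ H) (i : ι) : ∃ j, ∀ y, y ∈ F j ↔ x⁻¹ * y * x ∈ F i := by
  obtain ⟨j, hj⟩ := h.perm x hx i
  exact ⟨j, fun y => by rw [hj, Cfsg.Agent.UGT.TT.Ctrl.mem_map_conj]⟩

/-- the moved involution: `v ∈ H` an involution moving `F i`, `S ∋ v`: then `a * v a v⁻¹` is an involution commuting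
with `v`, which acts trivially on all `F r`, `r ≠ i, i'`, and nontrivially on `F i`. -/
theorem moved [Finite G] {S : Sylow 2 G} {v : G} (hv : v ∈ (S : Subgroup G)) (v2 : v * v = 1) {i i' : ι}
    (hi : ∀ y, y ∈ F i' ↔ v⁻¹ * y * v ∈ F i) (hii : i ≠ i') {a : G} (haS : a ∈ (S : Subgroup G)) (ha : a ∈ F i)
    (a2 : a * a = 1) (a1 : a ≠ 1) :
    a * (v * a * v⁻¹) ∈ (⨆ i, F i : Subgroup G) ∧ (a * (v * a * v⁻¹)) * (a * (v * a * v⁻¹)) = 1 ∧
      a * (v * a * v⁻¹) ≠ 1 ∧ v * (a * (v * a * v⁻¹)) = (a * (v * a * v⁻¹)) * v ∧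
      (∀ r, r ≠ i → r ≠ i' → Tr W (F r) (a * (v * a * v⁻¹))) ∧ ¬ Tr W (F i) (a * (v * a * v⁻¹)) := by
  have hb : v * a * v⁻¹ ∈ F i' := by
    rw [hi]
    have e : v⁻¹ * (v * a * v⁻¹) * v = a := by group
    rwa [e]
  have hbS : v * a * v⁻¹ ∈ (S : Subgroup G) := mul_mem (mul_mem hv haS) (inv_mem hv)
  have hab : a * (v * a * v⁻¹) = (v * a * v⁻¹) * a := h.comm_of_mem hii haS ha hbS hb
  have b2 : (v * a * v⁻¹) * (v * a * v⁻¹) = 1 := by
    have e : (v * a * v⁻¹) * (v * a * v⁻¹) = v * (a * a) * v⁻¹ := by group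
    rw [e, a2]; group
  have aH : a ∈ H := h.FH i ha
  have bH : v * a * v⁻¹ ∈ H := h.FH i' hb
  have haW : a ∉ W := fun hW => a1 (h.eq_one_of_sq a2 hW)
  refine ⟨mul_mem (mem_iSup_of_mem i ha) (mem_iSup_of_mem i' hb), ?_, ?_, ?_, ?_, ?_⟩
  · calc (a * (v * a * v⁻¹)) * (a * (v * a * v⁻¹)) = (a * (v * a * v⁻¹)) * ((v * a * v⁻¹) * a) := by rw [← hab]
      _ = a * ((v * a * v⁻¹) * (v * a * v⁻¹)) * a := by group
      _ = 1 := by rw [b2, mul_one, a2]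
  · intro h1
    apply haW
    have h2 : a = (v * a * v⁻¹)⁻¹ := eq_inv_of_mul_eq_one_left h1
    refine h.mem_W_of_mem hii ha ?_
    rw [h2]
    exact inv_mem hb
  · have vi : v⁻¹ = v := by rw [inv_eq_iff_mul_eq_one]; exact v2
    calc v * (a * (v * a * v⁻¹)) = v * a * v⁻¹ * ((v * v) * a) * v⁻¹ := by group
      _ = v * a * v⁻¹ * a * v⁻¹ := by rw [v2, one_mul]
      _ = (v * a * v⁻¹) * a * v := by rw [vi]
      _ = (a * (v * a * v⁻¹)) * v := by rw [← hab]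
  · intro r hr hr'
    exact ((TrS h r).mul_mem (h.F_le_TrS (Ne.symm hr) ha) (h.F_le_TrS (Ne.symm hr') hb)).2
  · intro hT
    apply haW
    have h1 : a * (v * a * v⁻¹) ∈ TrS h i := ⟨H.mul_mem aH bH, hT⟩
    have h2 := (TrS h i).mul_mem h1 ((TrS h i).inv_mem (h.F_le_TrS hii.symm hb))
    rw [mul_inv_cancel_right] at h2
    exact h.mem_W_of_TrS ha h2

/-- elements of `H` centralising `u` permute the members on which `u` acts nontrivially -/
theorem not_tr_move {u x : G} (hx : x ∈ H) (hxu : x * u = u * x) {i j : ι}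
    (hj : ∀ y, y ∈ F j ↔ x⁻¹ * y * x ∈ F i) (hN : ¬ Tr W (F i) u) : ¬ Tr W (F j) u := by
  intro hT
  apply hN
  intro y hy
  have h1 : x * y * x⁻¹ ∈ F j := by
    rw [hj]
    have e : x⁻¹ * (x * y * x⁻¹) * x = y := by group
    rwa [e]
  have h2 := h.nW x⁻¹ (H.inv_mem hx) _ (hT _ h1)
  have hxu' : x⁻¹ * u = u * x⁻¹ := by
    calc x⁻¹ * u = x⁻¹ * (u * x) * x⁻¹ := by group
      _ = x⁻¹ * (x * u) * x⁻¹ := by rw [hxu]
      _ = u * x⁻¹ := by group
  have hui : x⁻¹ * u⁻¹ * x = u⁻¹ := by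
    have e : x⁻¹ * u⁻¹ * x = (x⁻¹ * u * x)⁻¹ := by group
    rw [e, hxu']; group
  have e : x⁻¹ * (u * (x * y * x⁻¹) * u⁻¹ * (x * y * x⁻¹)⁻¹) * x⁻¹⁻¹ = u * y * u⁻¹ * y⁻¹ := by
    calc x⁻¹ * (u * (x * y * x⁻¹) * u⁻¹ * (x * y * x⁻¹)⁻¹) * x⁻¹⁻¹
        = (x⁻¹ * u) * x * y * (x⁻¹ * u⁻¹ * x) * y⁻¹ := by group
      _ = u * y * u⁻¹ * y⁻¹ := by rw [hxu', hui]; group
  rwa [e] at h2

/-- (III'), (III''), common part: no involution of a member commutes with `v = g u g⁻¹` if `g ∉ H` -/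
theorem not_comm_of_notMem
    (hC : ∀ u ∈ (⨆ i, F i : Subgroup G), u * u = 1 → u ≠ 1 → ∀ k l, k ≠ l → Tr W (F k) u → Tr W (F l) u →
      ∀ c : G, c * u = u * c → c ∈ H)
    {u : G} (hu : u ∈ (⨆ i, F i : Subgroup G)) (u2 : u * u = 1) (u1 : u ≠ 1) {k l : ι} (hkl : k ≠ l)
    (hk : Tr W (F k) u) (hl : Tr W (F l) u) {g : G} (hg : g ∉ H) {i : ι} {e : G} (he : e ∈ F i) (e2 : e * e = 1)
    (e1 : e ≠ 1) (hc : (g * u * g⁻¹) * e = e * (g * u * g⁻¹)) : False := by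
  have h1 : (g⁻¹ * e * g) * u = u * (g⁻¹ * e * g) := by
    calc (g⁻¹ * e * g) * u = g⁻¹ * (e * (g * u * g⁻¹)) * g := by group
      _ = g⁻¹ * ((g * u * g⁻¹) * e) * g := by rw [hc]
      _ = u * (g⁻¹ * e * g) := by group
  have h2 := hC u hu u2 u1 k l hkl hk hl _ h1
  have h3 : g⁻¹ ∈ H := h.sc1 i e he e2 e1 g⁻¹ (by rwa [inv_inv])
  exact hg (by simpa using H.inv_mem h3)

/-- (III'): the support has at most two elements -/
theorem sc_two [Finite G]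
    (hC : ∀ u ∈ (⨆ i, F i : Subgroup G), u * u = 1 → u ≠ 1 → ∀ k l, k ≠ l → Tr W (F k) u → Tr W (F l) u →
      ∀ c : G, c * u = u * c → c ∈ H)
    (hfour : ∀ a b : ι, ∃ c d : ι, c ≠ d ∧ c ≠ a ∧ c ≠ b ∧ d ≠ a ∧ d ≠ b) {p q : ι} (hpq : p ≠ q)
    {u : G} (hu : u ∈ (⨆ i, F i : Subgroup G)) (u2 : u * u = 1) (u1 : u ≠ 1)
    (hT : ∀ r, r ≠ p → r ≠ q → Tr W (F r) u) (hN : ¬ Tr W (F p) u) {g : G} (hg : g * u * g⁻¹ ∈ H) : g ∈ H := by
  by_contra hgH
  haveI : Nonempty ι := ⟨p⟩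
  obtain ⟨k, l, hkl, hkp, hkq, hlp, hlq⟩ := hfour p q
  have hTk := hT k hkp hkq
  have hTl := hT l hlp hlq
  set v : G := g * u * g⁻¹ with hv
  have v2 : v * v = 1 := by
    have e : v * v = g * (u * u) * g⁻¹ := by rw [hv]; group
    rw [e, u2]; group
  have hnc : ∀ i, ∀ e ∈ F i, e * e = 1 → e ≠ 1 → ¬ (v * e = e * v) := fun i e he e2 e1 hc =>
    h.not_comm_of_notMem hC hu u2 u1 hkl hTk hTl hgH he e2 e1 hc
  obtain ⟨S, hS, hvS⟩ := h.exists_sylow_mem hg v2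
  -- `v` moves `F p`
  obtain ⟨p', hp'⟩ := h.exists_move hg p
  have hpp : p ≠ p' := by
    rintro rfl
    obtain ⟨e, he, e2, e1, hc⟩ := h.exists_inv_comm hg v2 (i := p) (fun x hx => by
      rw [hp']
      have e : v⁻¹ * (v * x * v⁻¹) * v = x := by group
      rwa [e])
    exact hnc p e he e2 e1 hc
  obtain ⟨a, ha, b, hb, a2, b2, hab, a1, b1, hne⟩ := h.exists_four hS p
  obtain ⟨k', l', hkl', hkp', hkq', hlp', hlq'⟩ := hfour p p'
  -- the elements `x_c = g⁻¹ w_c g`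
  have key : ∀ c ∈ (S : Subgroup G), c ∈ F p → c * c = 1 → c ≠ 1 →
      g⁻¹ * (c * (v * c * v⁻¹)) * g ∈ H ∧ (g⁻¹ * (c * (v * c * v⁻¹)) * g) * u = u * (g⁻¹ * (c * (v * c * v⁻¹)) * g) ∧
      (g⁻¹ * (c * (v * c * v⁻¹)) * g) * (g⁻¹ * (c * (v * c * v⁻¹)) * g) = 1 ∧
      ¬ (∀ x ∈ F p, (g⁻¹ * (c * (v * c * v⁻¹)) * g) * x * (g⁻¹ * (c * (v * c * v⁻¹)) * g)⁻¹ ∈ F p) := by
    intro c hcS hcF c2 c1
    obtain ⟨w1, w2, w3, w4, w5, w6⟩ := h.moved hvS v2 hp' hpp hcS hcF c2 c1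
    set w : G := c * (v * c * v⁻¹) with hw
    have hxu : (g⁻¹ * w * g) * u = u * (g⁻¹ * w * g) := by
      calc (g⁻¹ * w * g) * u = g⁻¹ * (w * v) * g := by rw [hv]; group
        _ = g⁻¹ * (v * w) * g := by rw [w4]
        _ = u * (g⁻¹ * w * g) := by rw [hv]; group
    have hxH : g⁻¹ * w * g ∈ H := hC u hu u2 u1 k l hkl hTk hTl _ hxu
    have hx2 : (g⁻¹ * w * g) * (g⁻¹ * w * g) = 1 := by
      have e : (g⁻¹ * w * g) * (g⁻¹ * w * g) = g⁻¹ * (w * w) * g := by group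
      rw [e, w2]; group
    refine ⟨hxH, hxu, hx2, fun hnorm => ?_⟩
    obtain ⟨e, he, e2, e1, hc⟩ := h.exists_inv_comm hxH hx2 (i := p) hnorm
    have h1 : (g * e * g⁻¹) * w = w * (g * e * g⁻¹) := by
      calc (g * e * g⁻¹) * w = g * (e * (g⁻¹ * w * g)) * g⁻¹ := by group
        _ = g * ((g⁻¹ * w * g) * e) * g⁻¹ := by rw [hc]
        _ = w * (g * e * g⁻¹) := by group
    have h2 := hC w w1 w2 w3 k' l' hkl' (w5 k' hkp' hkq') (w5 l' hlp' hlq') _ h1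
    exact hgH (h.sc1 p e he e2 e1 g h2)
  -- `x_a`, `x_b` both map `F p` to `F q`
  have move : ∀ x : G, x ∈ H → x * u = u * x → ¬ (∀ y ∈ F p, x * y * x⁻¹ ∈ F p) → ∀ y, y ∈ F q ↔ x⁻¹ * y * x ∈ F p := by
    intro x hx hxu hn
    obtain ⟨j, hj⟩ := h.exists_move hx p
    have hjN := h.not_tr_move hx hxu hj hN
    have hjp : j ≠ p := by
      rintro rfl
      apply hn
      intro y hy
      rw [hj]
      have e : x⁻¹ * (x * y * x⁻¹) * x = y := by group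
      rwa [e]
    have hjq : j = q := by
      by_contra hjq
      exact hjN (hT j hjp hjq)
    rw [← hjq]
    exact hj
  obtain ⟨xaH, xau, xa2, xan⟩ := key a ha.1 ha.2 a2 a1
  obtain ⟨xbH, xbu, xb2, xbn⟩ := key b hb.1 hb.2 b2 b1
  have hab1 : a * b ≠ 1 := by
    intro h1
    apply hne
    have : a = b⁻¹ := eq_inv_of_mul_eq_one_left h1
    rw [this, inv_eq_iff_mul_eq_one]
    exact b2
  have hab2 : (a * b) * (a * b) = 1 := by
    calc (a * b) * (a * b) = (a * b) * (b * a) := by rw [← hab]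
      _ = a * (b * b) * a := by group
      _ = 1 := by rw [b2, mul_one, a2]
  obtain ⟨xcH, xcu, xc2, xcn⟩ := key (a * b) (mul_mem ha.1 hb.1) (mul_mem ha.2 hb.2) hab2 hab1
  have ma := move _ xaH xau xan
  have mb := move _ xbH xbu xbn
  -- `x_{ab} = x_a x_b`
  have hbvS : v * a * v⁻¹ ∈ (S : Subgroup G) := mul_mem (mul_mem hvS ha.1) (inv_mem hvS)
  have hbv : v * a * v⁻¹ ∈ F p' := by
    rw [hp']
    have e : v⁻¹ * (v * a * v⁻¹) * v = a := by group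
    rw [e]; exact ha.2
  have hcomm : b * (v * a * v⁻¹) = (v * a * v⁻¹) * b := h.comm_of_mem hpp hb.1 hb.2 hbvS hbv
  have hprod : g⁻¹ * (a * b * (v * (a * b) * v⁻¹)) * g =
      (g⁻¹ * (a * (v * a * v⁻¹)) * g) * (g⁻¹ * (b * (v * b * v⁻¹)) * g) := by
    calc g⁻¹ * (a * b * (v * (a * b) * v⁻¹)) * g = g⁻¹ * (a * (b * (v * a * v⁻¹)) * (v * b * v⁻¹)) * g := by group
      _ = g⁻¹ * (a * ((v * a * v⁻¹) * b) * (v * b * v⁻¹)) * g := by rw [hcomm]
      _ = _ := by group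
  apply xcn
  intro y hy
  rw [hprod]
  set xa : G := g⁻¹ * (a * (v * a * v⁻¹)) * g with hxa
  set xb : G := g⁻¹ * (b * (v * b * v⁻¹)) * g with hxb
  have h1 : xb * y * xb⁻¹ ∈ F q := by
    rw [mb]
    have e : xb⁻¹ * (xb * y * xb⁻¹) * xb = y := by group
    rwa [e]
  have h2 := (ma _).1 h1
  have xai : xa⁻¹ = xa := by rw [inv_eq_iff_mul_eq_one]; exact xa2
  have e : xa * xb * y * (xa * xb)⁻¹ = xa⁻¹ * (xb * y * xb⁻¹) * xa := by
    have e1 : xa * xb * y * (xa * xb)⁻¹ = xa * (xb * y * xb⁻¹) * xa⁻¹ := by group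
    rw [e1, xai]
  rw [e]
  exact h2

/-- (III) -/
theorem sc2 [Finite G]
    (hC : ∀ u ∈ (⨆ i, F i : Subgroup G), u * u = 1 → u ≠ 1 → ∀ k l, k ≠ l → Tr W (F k) u → Tr W (F l) u →
      ∀ c : G, c * u = u * c → c ∈ H)
    (hfour : ∀ a b : ι, ∃ c d : ι, c ≠ d ∧ c ≠ a ∧ c ≠ b ∧ d ≠ a ∧ d ≠ b)
    {u : G} (hu : u ∈ (⨆ i, F i : Subgroup G)) (u2 : u * u = 1) (u1 : u ≠ 1) {k l : ι} (hkl : k ≠ l)
    (hTk : Tr W (F k) u) (hTl : Tr W (F l) u) {g : G} (hg : g * u * g⁻¹ ∈ H) : g ∈ H := by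
  by_contra hgH
  haveI : Nonempty ι := ⟨k⟩
  set v : G := g * u * g⁻¹ with hv
  have v2 : v * v = 1 := by
    have e : v * v = g * (u * u) * g⁻¹ := by rw [hv]; group
    rw [e, u2]; group
  obtain ⟨S, hS, hvS⟩ := h.exists_sylow_mem hg v2
  obtain ⟨k', hk'⟩ := h.exists_move hg k
  have hkk : k ≠ k' := by
    intro hkk
    obtain ⟨e, he, e2, e1, hc⟩ := h.exists_inv_comm hg v2 (i := k) (fun x hx => by
      have h1 := (hk' (v * x * v⁻¹)).2 (by
        have e : v⁻¹ * (v * x * v⁻¹) * v = x := by group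
        rwa [e])
      rwa [← hkk] at h1)
    exact h.not_comm_of_notMem hC hu u2 u1 hkl hTk hTl hgH he e2 e1 hc
  obtain ⟨a, ha, -, -, a2, -, -, a1, -, -⟩ := h.exists_four hS k
  obtain ⟨w1, w2, w3, w4, w5, w6⟩ := h.moved hvS v2 hk' hkk ha.1 ha.2 a2 a1
  set w : G := a * (v * a * v⁻¹) with hw
  have hxu : (g⁻¹ * w * g) * u = u * (g⁻¹ * w * g) := by
    calc (g⁻¹ * w * g) * u = g⁻¹ * (w * v) * g := by rw [hv]; group
      _ = g⁻¹ * (v * w) * g := by rw [w4]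
      _ = u * (g⁻¹ * w * g) := by rw [hv]; group
  have hxH : g⁻¹ * w * g ∈ H := hC u hu u2 u1 k l hkl hTk hTl _ hxu
  have h1 : g⁻¹ ∈ H := h.sc_two hC hfour hkk w1 w2 w3 w5 w6 (g := g⁻¹) (by rwa [inv_inv])
  exact hgH (by simpa using H.inv_mem h1)

end Ctl

end Cfsg.Agent.UGT.Ctl
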