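import Mathlib
import Cfsg.Agent.UGT.Ctl.Sc
import Cfsg.Agent.UGT.Ctl.End

/-!
# THEOREM CTL

`Ctl.eq_top`: let `F i` (`i : ι`, at least two of them) be subgroups of `H ≤ G`, `G` finite, permuted by `H` under
conjugation, `W ≤ F i` of odd order normalised by `H`, `F i`, `F j` commuting modulo `W` for `i ≠ j`, `F i / W` with
trivial centre, every `F i` containing a four-group. If every involution of every `F i` is only fused into `H` by elements
of `H` then `H = G`.
-/

set_option autoImplicit false
set_option linter.style.haveILetI false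
set_option linter.dupNamespace false

namespace Cfsg.Agent.UGT.Ctl

open Subgroup Cfsg

universe u v w

theorem eq_top_aux (n : ℕ) : ∀ (G : Type u) [Group G] [Finite G] (ι : Type w) (H W : Subgroup G) (F : ι → Subgroup G)
    [Nontrivial ι] (_h : Ctl H W F), Nat.card G = n → H = ⊤ := by
  induction n using Nat.strong_induction_on with
  | _ n ih =>
    intro G _ _ ι H W F _ h hn
    -- (I)
    have hI : ∀ K : Subgroup G, K ≠ ⊤ → ∀ i j, i ≠ j → Cov W F K i → Cov W F K j → K ≤ H := by
      intro K hK i j hij hi hj
      have hlt : Nat.card K < n := by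
        rw [← hn]
        by_contra hle
        exact hK (Subgroup.eq_top_of_le_card K (not_lt.1 hle))
      haveI : Nontrivial {i // Cov W F K i} := ⟨⟨i, hi⟩, ⟨j, hj⟩, fun e => hij (congrArg Subtype.val e)⟩
      have h1 := ih _ hlt K {i // Cov W F K i} (H.subgroupOf K) (W.subgroupOf K)
        (fun i : {i // Cov W F K i} => (F i.1).subgroupOf K) (h.restrict K) rfl
      rwa [Subgroup.subgroupOf_eq_top] at h1
    refine h.eq_top_of fun i j k l hij hik hil hjk hjl hkl u hu u2 u1 hTk hTl g hg => ?_
    exact h.sc2 (fun u hu u2 u1 k l hkl hk hl c hc => h.centralizer_mem hI hu u2 u1 hkl hk hl hc)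
      (exists_two_ne hij hik hil hjk hjl hkl) hu u2 u1 hkl hTk hTl hg

/-- **THEOREM CTL.** -/
theorem Ctl.eq_top {G : Type u} [Group G] [Finite G] {ι : Type w} {H W : Subgroup G} {F : ι → Subgroup G} [Nontrivial ι]
    (h : Ctl H W F) : H = ⊤ :=
  eq_top_aux _ G ι H W F h rfl

end Cfsg.Agent.UGT.Ctl
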