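import Mathlib
import Cfsg.Agent.OddHalf.D3.Fus

/-!
# Permuted commuting parts: the weak frame

`Frame S H 𝓛`: as `OddHalf.D3.Fus.Frame` (helper308), but the control hypothesis `sc` is only required for the products
of the sets `J` of parts with at most one member or with at least two parts outside `J`.

`Frame.normalizer_le`: `N_G(X) ≤ H` for every essential subgroup `X` of `S`.
-/

set_option autoImplicit false
set_option linter.style.haveILetI false

namespace Cfsg.Agent.UGT.Ctl.Fus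

open Subgroup Cfsg.Agent.Lib.GoldschmidtFusion Cfsg.Agent.ClassTwoFusion.Ess
open Cfsg.Agent.OddHalf.D3.EssSE
open Cfsg.Agent.OddHalf.D3.Fus (Half exists_half exists_fix orderOf_eq_two_of_sq sq_of_orderOf ne_one_of_orderOf
  exists_of_mem_sup conj_mem_sSup)

variable {G : Type*} [Group G]

/-! ### The frame -/

/-- commuting parts permuted by `S`, weak form -/
structure Frame (S : Subgroup G) (H : Subgroup G) (𝓛 : Set (Subgroup G)) : Prop where
  le : ∀ A ∈ 𝓛, A ≤ S
  comm : ∀ A ∈ 𝓛, ∀ B ∈ 𝓛, A ≠ B → ∀ a ∈ A, ∀ b ∈ B, a * b = b * a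
  perm : ∀ s ∈ S, ∀ A ∈ 𝓛, A.map (MulAut.conj s).toMonoidHom ∈ 𝓛
  ne : ∀ A ∈ 𝓛, A ≠ ⊥
  rich : ∀ A ∈ 𝓛, ∀ x ∈ A, orderOf x = 2 → ∃ y ∈ A, orderOf y = 2 ∧ y ≠ x ∧ x * y = y * x
  two : ∃ A ∈ 𝓛, ∃ B ∈ 𝓛, A ≠ B
  sc : ∀ J : Set (Subgroup G), J ⊆ 𝓛 → J ≠ 𝓛 → (J.Subsingleton ∨ (𝓛 \ J).Nontrivial) → ∀ u ∈ sSup J, orderOf u = 2 → ∀ g : G, g * u * g⁻¹ ∈ S → g ∈ H

namespace Frame

variable {S H : Subgroup G} {𝓛 : Set (Subgroup G)} (h : Frame S H 𝓛)
include h

theorem sSup_le {J : Set (Subgroup G)} (hJ : J ⊆ 𝓛) : sSup J ≤ S :=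
  _root_.sSup_le fun A hA => h.le A (hJ hA)

/-- products of disjoint sets of parts commute -/
theorem sSup_comm {J J' : Set (Subgroup G)} (hJ : J ⊆ 𝓛) (hJ' : J' ⊆ 𝓛) (hd : ∀ A ∈ J, A ∉ J') {a b : G}
    (ha : a ∈ sSup J) (hb : b ∈ sSup J') : a * b = b * a := by
  have h1 : sSup J ≤ centralizer ((sSup J' : Subgroup G) : Set G) := by
    refine _root_.sSup_le fun A hA => ?_
    rw [le_centralizer_iff]
    refine _root_.sSup_le fun B hB => ?_
    intro y hy
    rw [mem_centralizer_iff]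
    intro x hx
    exact h.comm A (hJ hA) B (hJ' hB) (fun e => hd A hA (e ▸ hB)) x hx y hy
  exact ((mem_centralizer_iff.1 (h1 ha)) b hb).symm

end Frame

/-! ### The main theorem -/

/-- an essential subgroup whose normaliser is not in `H` -/
structure Bad (S : Sylow 2 G) (H : Subgroup G) (X : Subgroup G) : Prop where
  ess : IsEss 2 (S : Subgroup G) X
  not_le : ¬ normalizer (X : Set G) ≤ H

namespace Bad

variable [Finite G] {S : Sylow 2 G} {H X : Subgroup G} {𝓛 : Set (Subgroup G)}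
  (h : Frame (S : Subgroup G) H 𝓛) (hB : Bad S H X)
include h hB

omit [Finite G] in
/-- `X` contains no involution of a proper product of parts -/
theorem notMem_of_two {J : Set (Subgroup G)} (hJ : J ⊆ 𝓛) (hJ' : J ≠ 𝓛) (hw : J.Subsingleton ∨ (𝓛 \ J).Nontrivial)
    {u : G} (hu : u ∈ sSup J)
    (ou : orderOf u = 2) : u ∉ X := by
  intro huX
  apply hB.not_le
  intro g hg
  exact h.sc J hJ hJ' hw u hu ou g (hB.ess.lt.le ((mem_normalizer_iff.1 hg u).1 huX))

omit [Finite G] in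
/-- `X` meets the proper products of parts trivially -/
theorem eq_one {J : Set (Subgroup G)} (hJ : J ⊆ 𝓛) (hJ' : J ≠ 𝓛) (hw : J.Subsingleton ∨ (𝓛 \ J).Nontrivial)
    {u : G} (hu : u ∈ sSup J)
    (huX : u ∈ X) : u = 1 := by
  haveI : Fact (Nat.Prime 2) := ⟨Nat.prime_two⟩
  by_contra hne
  have hSp : IsPGroup 2 (S : Subgroup G) := S.isPGroup'
  obtain ⟨k, hk⟩ := hSp ⟨u, hB.ess.lt.le huX⟩
  have hk' : u ^ 2 ^ k = 1 := congrArg Subtype.val hk
  have h1 : ∃ j, u ^ 2 ^ j ≠ 1 ∧ u ^ 2 ^ (j + 1) = 1 := by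
    by_contra hcon
    push Not at hcon
    have : ∀ j, u ^ 2 ^ j ≠ 1 := by
      intro j
      induction j with
      | zero => simpa using hne
      | succ j ih => exact hcon j ih
    exact this k hk'
  obtain ⟨j, hj1, hj2⟩ := h1
  refine notMem_of_two h hB hJ hJ' hw (u := u ^ 2 ^ j) (pow_mem hu _) (orderOf_eq_two_of_sq ?_ hj1) (pow_mem huX _)
  rw [← pow_add, ← two_mul, ← pow_succ']
  exact hj2

omit h [Finite G] in
theorem mem_of_comm {c : G} (hc : c ∈ S) (hcX : ∀ x ∈ X, x * c = c * x) : c ∈ X :=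
  hB.ess.centric ⟨mem_centralizer_iff.2 fun x hx => hcX x hx, hc⟩

theorem transitive {A B : Subgroup G} (hA : A ∈ 𝓛) (hBB : B ∈ 𝓛) :
    ∃ x ∈ X, B = A.map (MulAut.conj x).toMonoidHom := by
  set J : Set (Subgroup G) := {B | ∃ x ∈ X, B = A.map (MulAut.conj x).toMonoidHom} with hJd
  have hXS : X ≤ S := hB.ess.lt.le
  have hJ : J ⊆ 𝓛 := by
    rintro _ ⟨x, hx, rfl⟩
    exact h.perm x (hXS hx) A hA
  by_cases hJ' : J = 𝓛
  · have : B ∈ J := by rw [hJ']; exact hBB
    exact this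
  · exfalso
    have hAJ : A ∈ J := ⟨1, one_mem _, (map_conj_one A).symm⟩
    by_cases hw : J.Subsingleton ∨ (𝓛 \ J).Nontrivial
    · obtain ⟨e, he, oe, hec⟩ := exists_fix (S := (S : Subgroup G)) (X := X) (D := sSup J) S.isPGroup' hXS
        (h.sSup_le hJ) (fun hb => h.ne A hA (by rw [eq_bot_iff, ← hb]; exact le_sSup hAJ)) (by
          intro x hx d hd
          refine conj_mem_sSup ?_ hd
          rintro _ ⟨x', hx', rfl⟩
          exact ⟨x * x', mul_mem hx hx', by rw [map_conj_map_conj]⟩)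
      exact notMem_of_two h hB hJ hJ' hw he oe (mem_of_comm hB (h.sSup_le hJ he) hec)
    · -- the complement of `J` is one part
      rw [not_or, Set.not_nontrivial_iff] at hw
      obtain ⟨C, hC, hCJ⟩ : ∃ C, C ∈ 𝓛 ∧ C ∉ J := by
        by_contra hcon
        push Not at hcon
        exact hJ' (Set.Subset.antisymm hJ hcon)
      have hXC : ∀ x ∈ X, C.map (MulAut.conj x).toMonoidHom = C := by
        intro x hx
        refine hw.2 ⟨h.perm x (hXS hx) C hC, ?_⟩ ⟨hC, hCJ⟩
        rintro ⟨x', hx', hxx⟩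
        apply hCJ
        refine ⟨x⁻¹ * x', X.mul_mem (X.inv_mem hx) hx', ?_⟩
        rw [← map_conj_map_conj, ← hxx, map_conj_map_conj, inv_mul_cancel, map_conj_one]
      obtain ⟨e, he, oe, hec⟩ := exists_fix (S := (S : Subgroup G)) (X := X) (D := C) S.isPGroup' hXS
        (h.le C hC) (h.ne C hC) (by
          intro x hx d hd
          have h1 : x * d * x⁻¹ ∈ C.map (MulAut.conj x).toMonoidHom := conj_mem_map_conj hd x
          rwa [hXC x hx] at h1)
      refine notMem_of_two h hB (J := {C}) (by simpa using hC) ?_ (Or.inl Set.subsingleton_singleton)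
        (by simpa using he) oe (mem_of_comm hB (h.le C hC he) hec)
      intro h1
      have h2 : A ∈ ({C} : Set (Subgroup G)) := by rw [h1]; exact hA
      rw [Set.mem_singleton_iff] at h2
      exact hCJ (h2 ▸ hAJ)

/-- the stabiliser of a part is proper -/
theorem stab_lt {A : Subgroup G} (hA : A ∈ 𝓛) : X ⊓ normalizer (A : Set G) < X := by
  refine lt_of_le_of_ne inf_le_left fun h1 => ?_
  have h2 : X ≤ normalizer (A : Set G) := by rw [← h1]; exact inf_le_right
  obtain ⟨C, hC, D, hD, hCD⟩ := h.two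
  apply hCD
  have key : ∀ C ∈ 𝓛, C = A := by
    intro C hC
    obtain ⟨x, hx, hx'⟩ := transitive h hB hA hC
    rw [hx', mem_normalizer_iff_map_conj.1 (h2 hx)]
  rw [key C hC, key D hD]

omit [Finite G] in
/-- the transvection of an involution `e` centralising the half `M` of `X` -/
theorem tr_of {A M : Subgroup G} (hA : A ∈ 𝓛) (hM : Half X M) (hAM : X ⊓ normalizer (A : Set G) ≤ M) {e : G}
    (he : e ∈ sSup {B : Subgroup G | ∃ x ∈ M, B = A.map (MulAut.conj x).toMonoidHom}) (oe : orderOf e = 2)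
    (hec : ∀ x ∈ M, x * e = e * x) {y : G} (hy : y ∈ X) (hyM : y ∉ M) :
    Tr (S : Subgroup G) X e (e * (y * e * y⁻¹)) ∧ e * (y * e * y⁻¹) = y * e * y⁻¹ * e := by
  set J : Set (Subgroup G) := {B | ∃ x ∈ M, B = A.map (MulAut.conj x).toMonoidHom} with hJd
  set J' : Set (Subgroup G) := {B | ∃ x ∈ M, B = A.map (MulAut.conj (y * x)).toMonoidHom} with hJ'd
  have hXS : X ≤ S := hB.ess.lt.le
  have hJ : J ⊆ 𝓛 := by
    rintro _ ⟨x, hx, rfl⟩
    exact h.perm x (hXS (hM.le hx)) A hA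
  have hJ'𝓛 : J' ⊆ 𝓛 := by
    rintro _ ⟨x, hx, rfl⟩
    exact h.perm _ (hXS (mul_mem hy (hM.le hx))) A hA
  have hdis : ∀ B ∈ J, B ∉ J' := by
    rintro _ ⟨x, hx, rfl⟩ ⟨x', hx', hxx⟩
    apply hyM
    have h1 : x⁻¹ * (y * x') ∈ normalizer (A : Set G) := by
      rw [mem_normalizer_iff_map_conj, ← map_conj_map_conj, ← hxx, map_conj_map_conj, inv_mul_cancel, map_conj_one]
    have h2 : x⁻¹ * (y * x') ∈ M :=
      hAM (mem_inf.2 ⟨X.mul_mem (X.inv_mem (hM.le hx)) (X.mul_mem hy (hM.le hx')), h1⟩)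
    have h3 : y = x * (x⁻¹ * (y * x')) * x'⁻¹ := by group
    rw [h3]
    exact M.mul_mem (M.mul_mem hx h2) (M.inv_mem hx')
  have hAJ : A ∈ J := ⟨1, one_mem _, (map_conj_one A).symm⟩
  have hJne : J ≠ 𝓛 := by
    intro h1
    have h2 : A.map (MulAut.conj (y * 1)).toMonoidHom ∈ J := by
      rw [h1]; exact h.perm _ (hXS (mul_mem hy (one_mem _))) A hA
    exact hdis _ h2 ⟨1, one_mem _, rfl⟩
  have hw : J.Subsingleton ∨ (𝓛 \ J).Nontrivial := by
    by_cases hs : J.Subsingleton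
    · left; exact hs
    · right
      rw [Set.not_subsingleton_iff] at hs
      obtain ⟨_, ⟨x, hx, rfl⟩, _, ⟨x', hx', rfl⟩, hne⟩ := hs
      refine ⟨A.map (MulAut.conj (y * x)).toMonoidHom,
        ⟨h.perm _ (hXS (mul_mem hy (hM.le hx))) A hA, fun h1 => hdis _ h1 ⟨x, hx, rfl⟩⟩,
        A.map (MulAut.conj (y * x')).toMonoidHom,
        ⟨h.perm _ (hXS (mul_mem hy (hM.le hx'))) A hA, fun h1 => hdis _ h1 ⟨x', hx', rfl⟩⟩, fun h1 => hne ?_⟩
      have h2 := congrArg (fun B : Subgroup G => B.map (MulAut.conj y⁻¹).toMonoidHom) h1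
      simpa only [map_conj_map_conj, inv_mul_cancel_left] using h2
  have heS : e ∈ (S : Subgroup G) := h.sSup_le hJ he
  have heX : e ∉ X := notMem_of_two h hB hJ hJne hw he oe
  have he2 := sq_of_orderOf oe
  have heinv : e⁻¹ = e := inv_eq_of_mul_eq_one_left he2
  set e' : G := y * e * y⁻¹ with he'
  have he'J : e' ∈ sSup J' := by
    refine conj_mem_sSup ?_ he
    rintro _ ⟨x, hx, rfl⟩
    exact ⟨x, hx, by rw [map_conj_map_conj]⟩
  have hcom : e * e' = e' * e := h.sSup_comm hJ hJ'𝓛 hdis he he'J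
  have he'2 : e' * e' = 1 := by
    calc e' * e' = y * (e * e) * y⁻¹ := by rw [he']; group
      _ = 1 := by rw [he2]; group
  have he'S : e' ∈ (S : Subgroup G) := mul_mem (mul_mem (hXS hy) heS) (inv_mem (hXS hy))
  -- `d` commutes with `M`
  have hdM : ∀ x ∈ M, x * (e * e') = e * e' * x := by
    intro x hx
    have h1 := hec x hx
    have h2 := hec _ (hM.conj' hy hx)
    have h3 : x * e' = e' * x := by
      calc x * e' = y * ((y⁻¹ * x * y) * e) * y⁻¹ := by rw [he']; group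
        _ = y * (e * (y⁻¹ * x * y)) * y⁻¹ := by rw [h2]
        _ = e' * x := by rw [he']; group
    calc x * (e * e') = (x * e) * e' := by group
      _ = e * (x * e') := by rw [h1]; group
      _ = e * e' * x := by rw [h3]; group
  have hyy : y * y ∈ M := hM.sq hy
  have hdy : y * (e * e') = e * e' * y := by
    have h1 := hec _ hyy
    have h2 : y * e' = e * y := by
      calc y * e' = ((y * y) * e) * y⁻¹ := by rw [he']; group
        _ = (e * (y * y)) * y⁻¹ := by rw [h1]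
        _ = e * y := by group
    calc y * (e * e') = (y * e * y⁻¹) * (y * e') := by group
      _ = e' * (e * y) := by rw [h2, he']
      _ = (e * e') * y := by rw [hcom]; group
  have hdX : ∀ x ∈ X, x * (e * e') = e * e' * x := by
    intro x hx
    by_cases hxM : x ∈ M
    · exact hdM x hxM
    · obtain ⟨m, hm, rfl⟩ := hM.exists_eq hx hxM hy hyM
      calc y * m * (e * e') = y * (m * (e * e')) := by group
        _ = (y * (e * e')) * m := by rw [hdM m hm]; group
        _ = e * e' * (y * m) := by rw [hdy]; group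
  refine ⟨⟨heS, heX, mem_of_comm hB (mul_mem heS he'S) hdX, ?_, fun x hx => (hdX x hx).symm, ?_, ?_⟩, hcom⟩
  · calc e * e' * (e * e') = e * (e' * e) * e' := by group
      _ = (e * e) * (e' * e') := by rw [← hcom]; group
      _ = 1 := by rw [he2, he'2, one_mul]
  · calc e * (e * e') = e * (e' * e) := by rw [hcom]
      _ = e * e' * e := by group
  · intro x hx
    by_cases hxM : x ∈ M
    · left
      rw [← hec x hxM, mul_inv_cancel_right]
    · right
      obtain ⟨m, hm, rfl⟩ := hM.exists_eq hx hxM hy hyM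
      calc e * (y * m) * e⁻¹ = e * y * (m * e) := by rw [heinv]; group
        _ = e * y * (e * m) := by rw [hec m hm]
        _ = e * e' * (y * m) := by rw [he']; group

/-- **Essential subgroups normalise the set of parts.** -/
theorem false : False := by
  haveI : Fact (Nat.Prime 2) := ⟨Nat.prime_two⟩
  have hXS : X ≤ S := hB.ess.lt.le
  have hSp : IsPGroup 2 (S : Subgroup G) := S.isPGroup'
  have hXp : IsPGroup 2 X := hSp.to_le hXS
  obtain ⟨A, hA, -⟩ := h.two
  obtain ⟨m, hm, hmM⟩ := SetLike.not_le_iff_exists.1 hB.ess.ess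
  have hmi : m⁻¹ ∈ normalizer (X : Set G) := inv_mem hm
  have hmiM : m⁻¹ ∉ starSub (S : Subgroup G) X := fun h1 => hmM (inv_mem_iff.1 h1)
  -- involutions of half products
  have exE : ∀ M : Subgroup G, Half X M → X ⊓ normalizer (A : Set G) ≤ M →
      ∃ e ∈ sSup {B : Subgroup G | ∃ x ∈ M, B = A.map (MulAut.conj x).toMonoidHom}, orderOf e = 2 ∧
        ∀ x ∈ M, x * e = e * x := by
    intro M hM hAM
    have hJ : {B : Subgroup G | ∃ x ∈ M, B = A.map (MulAut.conj x).toMonoidHom} ⊆ 𝓛 := by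
      rintro _ ⟨x, hx, rfl⟩
      exact h.perm x (hXS (hM.le hx)) A hA
    refine exists_fix (S := (S : Subgroup G)) (X := M) hSp (hM.le.trans hXS) (h.sSup_le hJ) ?_ ?_
    · intro hb
      refine h.ne A hA ?_
      rw [eq_bot_iff, ← hb]
      exact le_sSup ⟨1, one_mem _, (map_conj_one A).symm⟩
    · intro x hx d hd
      refine conj_mem_sSup ?_ hd
      rintro _ ⟨x', hx', rfl⟩
      exact ⟨x * x', mul_mem hx hx', by rw [map_conj_map_conj]⟩
  obtain ⟨M, hM, hAM⟩ := exists_half hXp (stab_lt h hB hA)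
  obtain ⟨e, he, oe, hec⟩ := exE M hM hAM
  obtain ⟨y0, hy0, hy0M⟩ := hM.ex
  obtain ⟨htr, -⟩ := tr_of h hB hA hM hAM he oe hec hy0 hy0M
  set d : G := e * (y0 * e * y0⁻¹) with hd
  set y : G := m * d * m⁻¹ with hy
  have hyX : y ∈ X := (mem_normalizer_iff.1 hm d).1 htr.dmem
  have hyc : ∀ x ∈ X, y * x = x * y := by
    intro x hx
    have h1 := htr.cen _ ((mem_normalizer_iff''.1 hm x).1 hx)
    have h2 := congrArg (fun t => m * t * m⁻¹) h1
    have e1 : m * (d * (m⁻¹ * x * m)) * m⁻¹ = y * x := by rw [hy]; group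
    have e2 : m * (m⁻¹ * x * m * d) * m⁻¹ = x * y := by rw [hy]; group
    simpa only [e1, e2] using h2
  have hy2 : y * y = 1 := by
    have e1 : y * y = m * (d * d) * m⁻¹ := by rw [hy]; group
    rw [e1, htr.sq]; group
  have hyM : y ∉ M := fun h1 => hmM (Tr.mem_star hB.ess htr htr hm (hec y h1).symm)
  -- `M` normalises `A`
  have hMA : M ≤ normalizer (A : Set G) := by
    by_cases hcase : (X ⊓ normalizer (A : Set G)) ⊔ zpowers y = X
    · intro x hx
      have hxX : x ∈ (X ⊓ normalizer (A : Set G)) ⊔ zpowers y := by rw [hcase]; exact hM.le hx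
      obtain ⟨a, ha, hxa⟩ := exists_of_mem_sup (D := X ⊓ normalizer (A : Set G))
        (fun z hz => hyc z (mem_inf.1 hz).1) hy2 hxX
      rcases hxa with rfl | rfl
      · exact ha.2
      · exfalso
        apply hyM
        have e1 : y = a⁻¹ * (a * y) := by group
        rw [e1]
        exact mul_mem (inv_mem (hAM ha)) hx
    · exfalso
      have hlt : (X ⊓ normalizer (A : Set G)) ⊔ zpowers y < X :=
        lt_of_le_of_ne (sup_le inf_le_left (by rw [zpowers_le]; exact hyX)) hcase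
      obtain ⟨M2, hM2, hDM2⟩ := exists_half hXp hlt
      have hAM2 : X ⊓ normalizer (A : Set G) ≤ M2 := le_sup_left.trans hDM2
      have hyM2 : y ∈ M2 := hDM2 (mem_sup_right (mem_zpowers y))
      obtain ⟨e2, he2, oe2, hec2⟩ := exE M2 hM2 hAM2
      obtain ⟨y2, hy2', hy2M⟩ := hM2.ex
      obtain ⟨htr2, -⟩ := tr_of h hB hA hM2 hAM2 he2 oe2 hec2 hy2' hy2M
      exact hmM (Tr.mem_star hB.ess htr htr2 hm (hec2 y hyM2).symm)
  -- the two parts commute
  have hAJ : A ∈ {B : Subgroup G | ∃ x ∈ M, B = A.map (MulAut.conj x).toMonoidHom} :=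
    ⟨1, one_mem _, (map_conj_one A).symm⟩
  have hAle : A ≤ sSup {B : Subgroup G | ∃ x ∈ M, B = A.map (MulAut.conj x).toMonoidHom} := le_sSup hAJ
  have heA : e ∈ A := by
    have h1 : sSup {B : Subgroup G | ∃ x ∈ M, B = A.map (MulAut.conj x).toMonoidHom} ≤ A := by
      refine _root_.sSup_le ?_
      rintro _ ⟨x, hx, rfl⟩
      rw [mem_normalizer_iff_map_conj.1 (hMA hx)]
    exact h1 he
  have hyN : y ∉ normalizer (A : Set G) := fun h1 => hyM (hAM (mem_inf.2 ⟨hyX, h1⟩))
  have hA' : A.map (MulAut.conj y).toMonoidHom ≠ A := fun h1 => hyN (mem_normalizer_iff_map_conj.2 h1)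
  have hAA : ∀ a ∈ A, ∀ b ∈ A, a * (y * b * y⁻¹) = y * b * y⁻¹ * a := fun a ha b hb =>
    h.comm A hA _ (h.perm y (hXS hyX) A hA) (Ne.symm hA') a ha _ (conj_mem_map_conj hb y)
  have hAS : A ≤ S := h.le A hA
  have hAX : ∀ a ∈ A, a ∈ X → a = 1 := by
    intro a ha haX
    refine eq_one h hB (J := {A}) (by simpa using hA) ?_ (Or.inl Set.subsingleton_singleton) (by simpa using ha) haX
    intro h1
    have h2 : A.map (MulAut.conj y).toMonoidHom ∈ ({A} : Set (Subgroup G)) := by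
      rw [h1]; exact h.perm y (hXS hyX) A hA
    exact hA' h2
  have hde : d = e * (y * e * y⁻¹) := by
    obtain ⟨a, ha, haa⟩ := hM.exists_eq hy0 hy0M hyX hyM
    have h1 := hec a ha
    calc d = e * (y * (a * e) * a⁻¹ * y⁻¹) := by rw [hd, haa]; group
      _ = e * (y * (e * a) * a⁻¹ * y⁻¹) := by rw [h1]
      _ = e * (y * e * y⁻¹) := by group
  have fact5 : ∀ e' ∈ A, orderOf e' = 2 → (∀ x ∈ M, x * e' = e' * x) →
      m⁻¹ * (e' * (y * e' * y⁻¹)) * m ∉ M := by
    intro e' he' oe' hec' h1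
    obtain ⟨htr', -⟩ := tr_of h hB hA hM hAM (hAle he') oe' hec' hyX hyM
    refine hmiM (Tr.mem_star hB.ess htr' htr hmi ?_)
    rw [inv_inv]
    exact (hec _ h1).symm
  have hmX' : ∀ x ∈ X, m⁻¹ * x * m ∈ X := fun x hx => (mem_normalizer_iff''.1 hm x).1 hx
  have hdX : ∀ e' ∈ A, orderOf e' = 2 → (∀ x ∈ M, x * e' = e' * x) → e' * (y * e' * y⁻¹) ∈ X := by
    intro e' he' oe' hec'
    exact (tr_of h hB hA hM hAM (hAle he') oe' hec' hyX hyM).1.dmem
  have noFour : ∀ e1 ∈ A, ∀ e2 ∈ A, orderOf e1 = 2 → orderOf e2 = 2 → (∀ x ∈ M, x * e1 = e1 * x) →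
      (∀ x ∈ M, x * e2 = e2 * x) → e1 ≠ e2 → e1 * e2 = e2 * e1 → False := by
    intro e1 h1 e2 h2 o1 o2 c1 c2 hne hcom
    have hs1 := sq_of_orderOf o1
    have hs2 := sq_of_orderOf o2
    have o12 : orderOf (e1 * e2) = 2 := by
      refine orderOf_eq_two_of_sq ?_ ?_
      · calc e1 * e2 * (e1 * e2) = e1 * (e2 * e1) * e2 := by group
          _ = (e1 * e1) * (e2 * e2) := by rw [← hcom]; group
          _ = 1 := by rw [hs1, hs2, one_mul]
      · intro h3
        apply hne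
        have h4 : e2⁻¹ = e2 := inv_eq_of_mul_eq_one_left hs2
        rw [← h4]
        exact eq_inv_of_mul_eq_one_left h3
    have c12 : ∀ x ∈ M, x * (e1 * e2) = e1 * e2 * x := by
      intro x hx
      calc x * (e1 * e2) = (x * e1) * e2 := by group
        _ = e1 * (x * e2) := by rw [c1 x hx]; group
        _ = e1 * e2 * x := by rw [c2 x hx]; group
    refine fact5 (e1 * e2) (mul_mem h1 h2) o12 c12 ?_
    have e3 : m⁻¹ * (e1 * e2 * (y * (e1 * e2) * y⁻¹)) * m =
        (m⁻¹ * (e1 * (y * e1 * y⁻¹)) * m) * (m⁻¹ * (e2 * (y * e2 * y⁻¹)) * m) := by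
      calc m⁻¹ * (e1 * e2 * (y * (e1 * e2) * y⁻¹)) * m
          = m⁻¹ * (e1 * (e2 * (y * e1 * y⁻¹)) * (y * e2 * y⁻¹)) * m := by group
        _ = m⁻¹ * (e1 * (y * e1 * y⁻¹ * e2) * (y * e2 * y⁻¹)) * m := by rw [hAA e2 h2 e1 h1]
        _ = _ := by group
    rw [e3]
    exact hM.mul _ (hmX' _ (hdX e1 h1 o1 c1)) _ (hmX' _ (hdX e2 h2 o2 c2)) (fact5 e1 h1 o1 c1)
      (fact5 e2 h2 o2 c2)
  have expTwo : ∀ b ∈ A, (∀ x ∈ M, x * b = b * x) → b * b = 1 := by
    intro b hb hbc
    by_contra hne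
    obtain ⟨k, hk⟩ := hSp ⟨b, hAS hb⟩
    have hk' : b ^ 2 ^ k = 1 := congrArg Subtype.val hk
    have h1 : ∃ j, b ^ 2 ^ (j + 1) ≠ 1 ∧ b ^ 2 ^ (j + 2) = 1 := by
      by_contra hcon
      push Not at hcon
      have h2 : ∀ j, b ^ 2 ^ (j + 1) ≠ 1 := by
        intro j
        induction j with
        | zero => simpa [pow_two] using hne
        | succ j ih => exact hcon j ih
      apply h2 k
      rw [pow_succ, pow_mul, hk', one_pow]
    obtain ⟨j, hj1, hj2⟩ := h1
    set b' : G := b ^ 2 ^ j with hb'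
    have hb'A : b' ∈ A := pow_mem hb _
    have hb'2 : b' * b' = b ^ 2 ^ (j + 1) := by
      rw [hb', ← pow_add, ← two_mul, ← pow_succ']
    have hb'4 : (b' * b') * (b' * b') = 1 := by
      rw [hb'2, ← pow_add, ← two_mul, ← pow_succ']; exact hj2
    have hb'c : ∀ x ∈ M, x * b' = b' * x := by
      intro x hx
      exact ((show Commute x b from hbc x hx).pow_right _).eq
    have hb'bA : b' * b' ∈ A := mul_mem hb'A hb'A
    have hb'bc : ∀ x ∈ M, x * (b' * b') = b' * b' * x := by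
      intro x hx
      exact ((show Commute x b' from hb'c x hx).mul_right (hb'c x hx)).eq
    have hob : orderOf (b' * b') = 2 := orderOf_eq_two_of_sq hb'4 (by rw [hb'2]; exact hj1)
    set z : G := b' * (y * b' * y⁻¹) with hz
    have hzX : z ∈ X := by
      refine mem_of_comm hB (mul_mem (hAS hb'A) (mul_mem (mul_mem (hXS hyX) (hAS hb'A)) (inv_mem (hXS hyX)))) ?_
      have hzM : ∀ x ∈ M, x * z = z * x := by
        intro x hx
        have h3 := hb'c x hx
        have h4 := hyc x (hM.le hx)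
        have h5 : x * (y * b' * y⁻¹) = y * b' * y⁻¹ * x := by
          calc x * (y * b' * y⁻¹) = (x * y) * b' * y⁻¹ := by group
            _ = y * (x * b') * y⁻¹ := by rw [← h4]; group
            _ = y * b' * (x * y⁻¹) := by rw [h3]; group
            _ = y * b' * (y⁻¹ * (y * x) * y⁻¹) := by group
            _ = y * b' * (y⁻¹ * (x * y) * y⁻¹) := by rw [h4]
            _ = y * b' * y⁻¹ * x := by group
        calc x * z = (x * b') * (y * b' * y⁻¹) := by rw [hz]; group
          _ = b' * (x * (y * b' * y⁻¹)) := by rw [h3]; group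
          _ = z * x := by rw [h5, hz]; group
      have hyi : y⁻¹ = y := inv_eq_of_mul_eq_one_left hy2
      have hzy : y * z = z * y := by
        have h6 := hAA b' hb'A b' hb'A
        calc y * z = (y * b' * y⁻¹) * (y * y) * b' * y⁻¹ := by rw [hz]; group
          _ = (y * b' * y⁻¹ * b') * y⁻¹ := by rw [hy2]; group
          _ = (b' * (y * b' * y⁻¹)) * y⁻¹ := by rw [← h6]
          _ = z * y := by rw [hz, hyi]
      intro x hx
      by_cases hxM : x ∈ M
      · exact hzM x hxM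
      · obtain ⟨a, ha, rfl⟩ := hM.exists_eq hx hxM hyX hyM
        calc y * a * z = y * (a * z) := by group
          _ = (y * z) * a := by rw [hzM a ha]; group
          _ = z * (y * a) := by rw [hzy]; group
    refine fact5 (b' * b') hb'bA hob hb'bc ?_
    have e3 : m⁻¹ * (b' * b' * (y * (b' * b') * y⁻¹)) * m = (m⁻¹ * z * m) * (m⁻¹ * z * m) := by
      calc m⁻¹ * (b' * b' * (y * (b' * b') * y⁻¹)) * m
          = m⁻¹ * (b' * (b' * (y * b' * y⁻¹)) * (y * b' * y⁻¹)) * m := by group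
        _ = m⁻¹ * (b' * (y * b' * y⁻¹ * b') * (y * b' * y⁻¹)) * m := by rw [hAA b' hb'A b' hb'A]
        _ = _ := by rw [hz]; group
    rw [e3]
    exact hM.sq (hmX' z hzX)
  have hBe : ∀ b ∈ A, (∀ x ∈ M, x * b = b * x) → b = 1 ∨ b = e := by
    intro b hb hbc
    by_contra hcon
    rw [not_or] at hcon
    have hb2 := expTwo b hb hbc
    have hbe := expTwo (b * e) (mul_mem hb heA) (fun x hx => by
      exact ((show Commute x b from hbc x hx).mul_right (hec x hx)).eq)
    have hb2' : b⁻¹ = b := inv_eq_of_mul_eq_one_left hb2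
    have he2' : e⁻¹ = e := inv_eq_of_mul_eq_one_left (sq_of_orderOf oe)
    have hcom : b * e = e * b := by
      have h1 : (b * e)⁻¹ = b * e := inv_eq_of_mul_eq_one_left hbe
      rw [mul_inv_rev, hb2', he2'] at h1
      exact h1.symm
    exact noFour b hb e heA (orderOf_eq_two_of_sq hb2 hcon.1) oe hbc hec hcon.2 hcom
  -- the element `p`
  obtain ⟨e', he'A, oe', hne', -⟩ := h.rich A hA e heA oe
  set Q : Subgroup G := M ⊔ zpowers e with hQ
  have hQA : ∀ q ∈ Q, q ∈ A → q = 1 ∨ q = e := by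
    intro q hq hqA
    obtain ⟨a, ha, hqa⟩ := exists_of_mem_sup (fun x hx => (hec x hx).symm) (sq_of_orderOf oe) hq
    have haA : a ∈ A := by
      rcases hqa with rfl | rfl
      · exact hqA
      · have e1 : a = a * e * e⁻¹ := by group
        rw [e1]; exact mul_mem hqA (inv_mem heA)
    have ha1 := hAX a haA (hM.le ha)
    rcases hqa with rfl | rfl
    · left; exact ha1
    · right; rw [ha1, one_mul]
  have hQT : Q < M ⊔ A := by
    refine lt_of_le_of_ne (sup_le le_sup_left (by rw [zpowers_le]; exact mem_sup_right heA)) fun h1 => ?_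
    have h2 : e' ∈ Q := by rw [h1]; exact mem_sup_right he'A
    rcases hQA e' h2 he'A with h3 | h3
    · exact ne_one_of_orderOf oe' h3
    · exact hne' h3
  have hTp : IsPGroup 2 (M ⊔ A : Subgroup G) := hSp.to_le (sup_le (hM.le.trans hXS) hAS)
  obtain ⟨t, ht, htQ⟩ := SetLike.exists_of_lt (lt_inf_normalizer (p := 2) hTp hQT)
  have htT : t ∈ ((M ⊔ A : Subgroup G) : Set G) := ht.1
  rw [coe_mul_of_left_le_normalizer_right M A hMA] at htT
  obtain ⟨a, ha, p, hp, hap⟩ := Set.mem_mul.1 htT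
  have hpt : p = a⁻¹ * t := by rw [← hap]; group
  have haQ : a ∈ Q := mem_sup_left ha
  have hpN : p ∈ normalizer (Q : Set G) := by
    rw [hpt]; exact mul_mem (inv_mem (le_normalizer haQ)) ht.2
  have hpQ : p ∉ Q := by
    intro h1
    apply htQ
    rw [← hap]; exact mul_mem haQ h1
  have hpA : p ∈ A := hp
  have heQ : e ∈ Q := mem_sup_right (mem_zpowers e)
  have hpq : ∀ q ∈ M, p * q * p⁻¹ = q ∨ p * q * p⁻¹ = e * q := by
    intro q hq
    have h1 : p * q * p⁻¹ ∈ Q := (mem_normalizer_iff.1 hpN q).1 (mem_sup_left hq)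
    have h2 : p * q * p⁻¹ * q⁻¹ ∈ Q := mul_mem h1 (inv_mem (mem_sup_left hq))
    have h3 : p * q * p⁻¹ * q⁻¹ ∈ A := by
      have e1 : p * q * p⁻¹ * q⁻¹ = p * (q * p⁻¹ * q⁻¹) := by group
      rw [e1]
      exact mul_mem hpA ((mem_normalizer_iff.1 (hMA hq) _).1 (inv_mem hpA))
    rcases hQA _ h2 h3 with h4 | h4
    · left; exact mul_inv_eq_one.1 h4
    · right; exact mul_inv_eq_iff_eq_mul.1 h4
  have hpe : p * e = e * p := by
    have h1 : p * e * p⁻¹ ∈ Q := (mem_normalizer_iff.1 hpN e).1 heQ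
    rcases hQA _ h1 (mul_mem (mul_mem hpA heA) (inv_mem hpA)) with h4 | h4
    · exfalso
      apply ne_one_of_orderOf oe
      have h5 : e = p⁻¹ * (p * e * p⁻¹) * p := by group
      rw [h5, h4]; group
    · exact mul_inv_eq_iff_eq_mul.1 h4
  have hexq : ∃ q ∈ M, p * q * p⁻¹ = e * q := by
    by_contra hcon
    push Not at hcon
    have h1 : ∀ x ∈ M, x * p = p * x := by
      intro x hx
      rcases hpq x hx with h2 | h2
      · exact (mul_inv_eq_iff_eq_mul.1 h2).symm
      · exact absurd h2 (hcon x hx)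
    rcases hBe p hpA h1 with h2 | h2
    · exact hpQ (h2 ▸ one_mem _)
    · exact hpQ (h2 ▸ heQ)
  obtain ⟨q, hq, hqq⟩ := hexq
  have hyi : y⁻¹ = y := inv_eq_of_mul_eq_one_left hy2
  set f : G := p * (y * p * y⁻¹) with hf
  have hype : y * p * y⁻¹ * (y * e * y⁻¹) = y * e * y⁻¹ * (y * p * y⁻¹) := by
    calc y * p * y⁻¹ * (y * e * y⁻¹) = y * (p * e) * y⁻¹ := by group
      _ = y * (e * p) * y⁻¹ := by rw [hpe]
      _ = _ := by group
  have hyp1 : ∀ x ∈ M, p * x * p⁻¹ = x → f * x * f⁻¹ = x := by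
    intro x hx h1
    have h2 := hyc x (hM.le hx)
    have h3 : y * p * y⁻¹ * x * (y * p * y⁻¹)⁻¹ = x := by
      calc y * p * y⁻¹ * x * (y * p * y⁻¹)⁻¹ = y * p * y⁻¹ * (x * y) * p⁻¹ * y⁻¹ := by group
        _ = y * (p * x * p⁻¹) * y⁻¹ := by rw [← h2]; group
        _ = (y * x) * y⁻¹ := by rw [h1]
        _ = x := by rw [h2]; group
    calc f * x * f⁻¹ = p * (y * p * y⁻¹ * x * (y * p * y⁻¹)⁻¹) * p⁻¹ := by rw [hf]; group
      _ = x := by rw [h3, h1]
  have hyp2 : ∀ x ∈ M, p * x * p⁻¹ = e * x → f * x * f⁻¹ = d * x := by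
    intro x hx h1
    have h2 := hyc x (hM.le hx)
    have h3 : y * p * y⁻¹ * x * (y * p * y⁻¹)⁻¹ = y * e * y⁻¹ * x := by
      calc y * p * y⁻¹ * x * (y * p * y⁻¹)⁻¹ = y * p * y⁻¹ * (x * y) * p⁻¹ * y⁻¹ := by group
        _ = y * (p * x * p⁻¹) * y⁻¹ := by rw [← h2]; group
        _ = y * (e * x) * y⁻¹ := by rw [h1]
        _ = y * e * (x * y) * y⁻¹ * y⁻¹ := by group
        _ = y * e * (y * x) * y⁻¹ * y⁻¹ := by rw [h2]
        _ = y * e * y⁻¹ * (y * y) * x * (y * y)⁻¹ := by group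
        _ = y * e * y⁻¹ * x := by rw [hy2]; group
    calc f * x * f⁻¹ = p * (y * p * y⁻¹ * x * (y * p * y⁻¹)⁻¹) * p⁻¹ := by rw [hf]; group
      _ = (p * (y * e * y⁻¹)) * x * p⁻¹ := by rw [h3]; group
      _ = (y * e * y⁻¹) * (p * x * p⁻¹) := by rw [hAA p hpA e heA]; group
      _ = (y * e * y⁻¹ * e) * x := by rw [h1]; group
      _ = d * x := by rw [← hAA e heA e heA, hde]
  have hfy : f * y = y * f := by
    have h6 := hAA p hpA p hpA
    calc f * y = (p * (y * p * y⁻¹)) * y := by rw [hf]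
      _ = (y * p * y⁻¹ * p) * y := by rw [h6]
      _ = y * p * (y⁻¹ * p * y) := by group
      _ = y * (p * (y * p * y⁻¹)) := by rw [hyi]; group
      _ = y * f := by rw [hf]
  have hfX : f ∉ X := by
    intro h1
    have h2 := hyp2 q hq hqq
    have h3 : d = f * q * f⁻¹ * q⁻¹ := by rw [h2]; group
    refine fact5 e heA oe hec ?_
    rw [← hde, h3]
    have e1 : m⁻¹ * (f * q * f⁻¹ * q⁻¹) * m =
        (m⁻¹ * f * m) * (m⁻¹ * q * m) * (m⁻¹ * f * m)⁻¹ * (m⁻¹ * q * m)⁻¹ := by group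
    rw [e1]
    exact hM.comm (hmX' f h1) (hmX' q (hM.le hq))
  have hfS : f ∈ (S : Subgroup G) :=
    mul_mem (hAS hpA) (mul_mem (mul_mem (hXS hyX) (hAS hpA)) (inv_mem (hXS hyX)))
  have hfd : f * d = d * f := by
    have h1 := hAA p hpA e heA
    have h2 := hAA e heA p hpA
    have c1 : Commute p e := hpe
    have c2 : Commute p (y * e * y⁻¹) := h1
    have c3 : Commute (y * p * y⁻¹) e := h2.symm
    have c4 : Commute (y * p * y⁻¹) (y * e * y⁻¹) := hype
    rw [hf, hde]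
    exact ((c1.mul_right c2).mul_left (c3.mul_right c4)).eq
  have htrf : Tr (S : Subgroup G) X f d := by
    refine ⟨hfS, hfX, htr.dmem, htr.sq, htr.cen, hfd, fun x hx => ?_⟩
    have hM' : ∀ x ∈ M, f * x * f⁻¹ = x ∨ f * x * f⁻¹ = d * x := by
      intro x hx
      rcases hpq x hx with h1 | h1
      · left; exact hyp1 x hx h1
      · right; exact hyp2 x hx h1
    by_cases hxM : x ∈ M
    · exact hM' x hxM
    · obtain ⟨a, ha, rfl⟩ := hM.exists_eq hx hxM hyX hyM
      have e1 : f * (y * a) * f⁻¹ = y * (f * a * f⁻¹) := by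
        calc f * (y * a) * f⁻¹ = (f * y) * a * f⁻¹ := by group
          _ = y * (f * a * f⁻¹) := by rw [hfy]; group
      rw [e1]
      rcases hM' a ha with h1 | h1
      · left; rw [h1]
      · right
        rw [h1]
        calc y * (d * a) = (y * d) * a := by group
          _ = d * (y * a) := by rw [hyc d htr.dmem]; group
  exact hmM (Tr.mem_star hB.ess htr htrf hm hfy)

end Bad

/-- **`N_G(X) ≤ H` for every essential subgroup `X`.** -/
theorem Frame.normalizer_le [Finite G] {S : Sylow 2 G} {H : Subgroup G} {𝓛 : Set (Subgroup G)}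
    (h : Frame (S : Subgroup G) H 𝓛) {X : Subgroup G} (hX : IsEss 2 (S : Subgroup G) X) :
    normalizer (X : Set G) ≤ H := by
  by_contra hn
  exact Bad.false h ⟨hX, hn⟩

end Cfsg.Agent.UGT.Ctl.Fus
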