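import Cfsg.Agent.UGT.Ctl.Basic
import Cfsg.Agent.UGT.Ctl.FusWeak
import Cfsg.Agent.PermParts.OfProd
import Cfsg.Agent.WeakTI.FlatCoprime
import Cfsg.Agent.Lib.Cores

/-!
# THEOREM CTL, (IV): strong closure

`Ctl.frame`: the weak frame of the parts `S ∩ F i`; `Ctl.isStronglyClosed`, `Ctl.data`: `S ∩ ⟨F i⟩` is strongly closed.
`Ctl.oddCore_le`: `O(G) ≤ H`.  `Ctl.eq_top_of_comm`: `H = G` if `[x^g, y] ∈ H` for `x`, `y` in different parts and `g`
in the normal closure.
-/

set_option autoImplicit false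
set_option linter.style.haveILetI false
set_option linter.dupNamespace false

namespace Cfsg.Agent.UGT.Ctl

open Subgroup Cfsg
open Cfsg.Agent.UGT.TT (exists_pow_orderOf)
open Cfsg.Agent.Lib.GoldschmidtFusion Cfsg.Agent.ClassTwoFusion.Ess
open Cfsg.Agent.OddHalf.D3.Fus (orderOf_eq_two_of_sq sq_of_orderOf ne_one_of_orderOf)
open Cfsg.Agent.TwoFusion.ClosedFam (fam)

universe u v w

namespace Ctl

variable {G : Type u} [Group G] {ι : Type w} {H W : Subgroup G} {F : ι → Subgroup G}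

/-- The control hypothesis for involutions centralising two members of the family modulo `W`. -/
def SC2 (H W : Subgroup G) (F : ι → Subgroup G) : Prop :=
  ∀ i j k l, i ≠ j → i ≠ k → i ≠ l → j ≠ k → j ≠ l → k ≠ l → ∀ u ∈ (⨆ i, F i : Subgroup G),
    u * u = 1 → u ≠ 1 → (∀ y ∈ F k, u * y * u⁻¹ * y⁻¹ ∈ W) → (∀ y ∈ F l, u * y * u⁻¹ * y⁻¹ ∈ W) →
    ∀ g : G, g * u * g⁻¹ ∈ H → g ∈ H

variable [Finite G]

omit [Finite G] in
theorem sc_mem (h : Ctl H W F) {i : ι} {u : G} (hu : u ∈ F i) (hu2 : u * u = 1) (hu1 : u ≠ 1) {g : G}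
    (hg : g * u * g⁻¹ ∈ H) : g ∈ H := h.sc1 i u hu hu2 hu1 g hg

/-- the weak frame of the parts `S ∩ F i` -/
theorem frame [Nontrivial ι] (h : Ctl H W F) (sc2 : SC2 H W F) {S : Sylow 2 G} (hS : (S : Subgroup G) ≤ H) :
    Fus.Frame (S : Subgroup G) H (Set.range fun i => (S : Subgroup G) ⊓ F i) where
  le := by
    rintro _ ⟨i, rfl⟩
    exact inf_le_left
  comm := by
    rintro _ ⟨i, rfl⟩ _ ⟨j, rfl⟩ hne a ha b hb
    have hij : i ≠ j := by rintro rfl; exact hne rfl
    have h1 := h.comm i j hij a ha.2 b hb.2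
    have h2 : a * b * a⁻¹ * b⁻¹ ∈ (S : Subgroup G) :=
      mul_mem (mul_mem (mul_mem ha.1 hb.1) (inv_mem ha.1)) (inv_mem hb.1)
    have h3 := h.eq_one_of_W S.isPGroup' h2 h1
    calc a * b = (a * b * a⁻¹ * b⁻¹) * b * a := by group
      _ = b * a := by rw [h3, one_mul]
  perm := by
    rintro s hs _ ⟨i, rfl⟩
    obtain ⟨j, hj⟩ := h.perm s (hS hs) i
    refine ⟨j, ?_⟩
    ext x
    change x ∈ (S : Subgroup G) ⊓ F j ↔ x ∈ ((S : Subgroup G) ⊓ F i).map (MulAut.conj s).toMonoidHom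
    rw [mem_map_conj, mem_inf, mem_inf, hj, mem_map_conj]
    constructor
    · rintro ⟨h1, h2⟩
      exact ⟨mul_mem (mul_mem (inv_mem hs) h1) hs, h2⟩
    · rintro ⟨h1, h2⟩
      refine ⟨?_, h2⟩
      have e : x = s * (s⁻¹ * x * s) * s⁻¹ := by group
      rw [e]
      exact mul_mem (mul_mem hs h1) (inv_mem hs)
  ne := by
    rintro _ ⟨i, rfl⟩
    exact h.inf_ne_bot hS i
  rich := by
    rintro _ ⟨i, rfl⟩
    exact h.rich_inf hS i
  two := by
    obtain ⟨i, j, hij⟩ := exists_pair_ne ι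
    exact ⟨_, ⟨i, rfl⟩, _, ⟨j, rfl⟩, fun h1 => hij (h.inf_injective hS h1)⟩
  sc := by
    intro J hJ hJne hw u hu ou g hg
    have hu2 := sq_of_orderOf ou
    have hu1 := ne_one_of_orderOf ou
    by_cases hs : J.Subsingleton
    · -- at most one part
      rcases hs.eq_empty_or_singleton with h1 | ⟨A, h1⟩
      · exfalso
        rw [h1, sSup_empty, mem_bot] at hu
        exact hu1 hu
      · obtain ⟨i, hi⟩ := hJ (show A ∈ J by rw [h1]; exact Set.mem_singleton A)
        rw [h1, sSup_singleton] at hu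
        have h2 : u ∈ (S : Subgroup G) ⊓ F i := by
          have hi' : (S : Subgroup G) ⊓ F i = A := hi
          rw [hi']; exact hu
        exact h.sc1 i u h2.2 hu2 hu1 g (hS hg)
    · rcases hw with hw | hw
      · exact absurd hw hs
      · rw [Set.not_subsingleton_iff] at hs
        obtain ⟨A, hA, B, hB, hAB⟩ := hs
        obtain ⟨C, hC, D, hD, hCD⟩ := hw
        obtain ⟨i, rfl⟩ := hJ hA
        obtain ⟨j, rfl⟩ := hJ hB
        obtain ⟨⟨k, rfl⟩, hkJ⟩ := hC
        obtain ⟨⟨l, rfl⟩, hlJ⟩ := hD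
        have key : ∀ m, (S : Subgroup G) ⊓ F m ∉ J → u ∈ TrS h m := by
          intro m hm
          have h2 : sSup J ≤ TrS h m := by
            refine sSup_le fun A hA => ?_
            obtain ⟨i, rfl⟩ := hJ hA
            have him : i ≠ m := by rintro rfl; exact hm hA
            exact inf_le_right.trans (h.F_le_TrS him)
          exact h2 hu
        refine sc2 i j k l ?_ ?_ ?_ ?_ ?_ ?_ u ?_ hu2 hu1 (key k hkJ).2 (key l hlJ).2 g (hS hg)
        · rintro rfl; exact hAB rfl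
        · rintro rfl; exact hkJ hA
        · rintro rfl; exact hlJ hA
        · rintro rfl; exact hkJ hB
        · rintro rfl; exact hlJ hB
        · rintro rfl; exact hCD rfl
        · have h2 : sSup J ≤ (⨆ i, F i : Subgroup G) := by
            refine sSup_le fun A hA => ?_
            obtain ⟨i, rfl⟩ := hJ hA
            exact inf_le_right.trans (le_iSup F i)
          exact h2 hu

/-- `S ∩ ⟨F i⟩` is strongly closed. -/
theorem isStronglyClosed [Nontrivial ι] (h : Ctl H W F) (sc2 : SC2 H W F) {S : Sylow 2 G}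
    (hS : (S : Subgroup G) ≤ H) : Cfsg.IsStronglyClosed ((S : Subgroup G) ⊓ ⨆ i, F i) (S : Subgroup G) := by
  haveI : Fact (Nat.Prime 2) := ⟨Nat.prime_two⟩
  have hfr := h.frame sc2 hS
  refine Cfsg.Agent.ClassTwoFusion.Ess.isStronglyClosed S _ inf_le_left ?_ ?_
  · intro g hg a ha
    have hgH : g ∈ H := by
      obtain ⟨i0⟩ : Nonempty ι := inferInstance
      obtain ⟨u, hu, -, -, ou, -⟩ := h.exists_two hS i0
      exact h.sc_mem hu.2 (sq_of_orderOf ou) (ne_one_of_orderOf ou) (hS ((mem_normalizer_iff.1 hg _).1 hu.1))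
    exact ⟨(mem_normalizer_iff.1 hg a).1 ha.1, h.conj_mem_join hgH ha.2⟩
  · intro X hX g hg a ha haX
    have hgH := hfr.normalizer_le hX hg
    exact ⟨hX.lt.le ((mem_normalizer_iff.1 hg a).1 haX), h.conj_mem_join hgH ha.2⟩

/-- the closed family -/
def fam𝒜 (S : Sylow 2 G) (F : ι → Subgroup G) : Set G := {x : G | ∃ g : G, g * x * g⁻¹ ∈ (S : Subgroup G) ⊓ ⨆ i, F i}

theorem data [Nontrivial ι] (h : Ctl H W F) (sc2 : SC2 H W F) {S : Sylow 2 G} (hS : (S : Subgroup G) ≤ H) :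
    Cfsg.Agent.PermParts.OfProd.Data (fam𝒜 S F) S (fun i => (S : Subgroup G) ⊓ F i) := by
  haveI : Fact (Nat.Prime 2) := ⟨Nat.prime_two⟩
  have hcl := h.isStronglyClosed sc2 hS
  refine ⟨Cfsg.Agent.TwoFusion.ClosedFam.isClosedFam_of_isStronglyClosed S _ hcl, ?_, ?_, ?_, ?_⟩
  · intro i x hx
    exact ⟨⟨1, by simpa using ⟨hx.1, mem_iSup_of_mem i hx.2⟩⟩, hx.1⟩
  · rintro i x hx q hq ⟨g, hg⟩
    have hqW : q ∈ (S : Subgroup G) ⊓ ⨆ i, F i := by
      have e : g⁻¹ * (g * q * g⁻¹) * g⁻¹⁻¹ = q := by group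
      have := hcl.2 _ hg g⁻¹ (by rw [e]; exact hq)
      rwa [e] at this
    exact mem_inf.2 ⟨(S : Subgroup G).mul_mem ((S : Subgroup G).mul_mem hq hx.1) ((S : Subgroup G).inv_mem hq),
      (mem_normalizer_iff.1 (h.le_normalizer' i hqW.2) x).1 hx.2⟩
  · intro i x hx hx'
    have h1 : (⨆ j : {j // j ≠ i}, (S : Subgroup G) ⊓ F j.1 : Subgroup G) ≤ ⨆ j : {j // j ≠ i}, F j.1 :=
      iSup_mono fun j => inf_le_right
    exact h.eq_one_of_W S.isPGroup' hx.1 (h.indep hx.2 (h1 hx'))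
  · intro i x hx g hg
    by_cases hx1 : x = 1
    · refine ⟨i, ?_⟩
      rw [hx1]
      have e : g * 1 * g⁻¹ = 1 := by group
      rw [e]; exact one_mem _
    · obtain ⟨n, hn⟩ := exists_pow_orderOf S.isPGroup' hx.1 hx1
      have hgH : g ∈ H := by
        refine h.sc_mem (pow_mem hx.2 n) (sq_of_orderOf hn) (ne_one_of_orderOf hn) ?_
        rw [← conj_pow]
        exact hS (pow_mem hg n)
      obtain ⟨j, hj⟩ := h.perm g hgH i
      refine ⟨j, hg, ?_⟩
      change g * x * g⁻¹ ∈ F j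
      rw [hj]
      exact ⟨x, hx.2, rfl⟩

/-- `O(G) ≤ H` -/
theorem oddCore_le [Nonempty ι] (h : Ctl H W F) : Cfsg.oddCore G ≤ H := by
  obtain ⟨i0⟩ : Nonempty ι := ‹_›
  obtain ⟨a, ha, b, hb, ha2, hb2, hab, ha1, hb1, hne⟩ := h.rich i0
  set B : Subgroup G := closure ({a, b} : Set G) with hB
  have hcomm : ∀ x ∈ ({a, b} : Set G), ∀ y ∈ ({a, b} : Set G), x * y = y * x := by
    rintro x (rfl | rfl) y (rfl | rfl)
    · rfl
    · exact hab
    · exact hab.symm
    · rfl
  have hsq : ∀ x ∈ ({a, b} : Set G), x * x = 1 := by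
    rintro x (rfl | rfl)
    · exact ha2
    · exact hb2
  have hBc : ∀ x ∈ B, ∀ y ∈ B, x * y = y * x := by
    intro x hx y hy
    have h1 : B ≤ centralizer (B : Set G) := by
      rw [hB]
      refine (closure_le _).mpr fun a ha => ?_
      rw [SetLike.mem_coe, mem_centralizer_iff]
      intro b hb
      induction hb using closure_induction with
      | mem b hb => exact hcomm b hb a ha
      | one => rw [one_mul, mul_one]
      | mul b c _ _ h1 h2 => rw [mul_assoc, h2, ← mul_assoc, h1, mul_assoc]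
      | inv b _ h1 => rw [inv_mul_eq_iff_eq_mul, ← mul_assoc, h1, mul_inv_cancel_right]
    exact (mem_centralizer_iff.mp (h1 hy) x hx)
  have hBs : ∀ x ∈ B, x * x = 1 := by
    intro x hx
    rw [hB] at hx
    induction hx using closure_induction with
    | mem b hb => exact hsq b hb
    | one => rw [one_mul]
    | mul b c hb hc' h1 h2 =>
      calc b * c * (b * c) = b * (c * b) * c := by group
        _ = b * (b * c) * c := by rw [hBc c hc' b hb]
        _ = (b * b) * (c * c) := by group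
        _ = 1 := by rw [h1, h2, one_mul]
    | inv b _ h1 => rw [← mul_inv_rev, h1, inv_one]
  have hBF : B ≤ F i0 := by
    rw [hB, closure_le]
    rintro x (rfl | rfl)
    · exact ha
    · exact hb
  have hB2 : 2 < Nat.card B := by
    have h1 : ({1, a, b} : Set G) ⊆ (B : Set G) := by
      rintro x (rfl | rfl | rfl)
      · exact B.one_mem
      · exact subset_closure (by simp)
      · exact subset_closure (by simp)
    have h2 : ({1, a, b} : Set G).ncard = 3 := by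
      rw [Set.ncard_insert_of_notMem, Set.ncard_pair hne]
      simp only [Set.mem_insert_iff, Set.mem_singleton_iff, not_or]
      exact ⟨ha1.symm, hb1.symm⟩
    have h3 := Set.ncard_le_ncard h1 (Set.toFinite _)
    rw [h2] at h3
    have h4 : (B : Set G).ncard = Nat.card B := rfl
    omega
  haveI : (Cfsg.oddCore G).Normal := inferInstance
  refine Cfsg.Agent.WeakTI.FlatCoprime.le_of_centralizers (B := B) ?_ hBc hBs hB2 ?_ ?_
  · exact Nat.Coprime.odd_of_right (Cfsg.Agent.Lib.Cores.pPrimeCore_coprime 2)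
  · rw [normalizer_eq_top]; exact le_top
  · intro c hc hc1 y _ hyc
    refine h.sc_mem (hBF hc) (hBs c hc) hc1 ?_
    rw [hyc, mul_inv_cancel_right]
    exact h.FH i0 (hBF hc)

/-- the end, with the output of the permuted product theorem as hypothesis -/
theorem eq_top_of_comm [Nontrivial ι] (h : Ctl H W F) {S : Sylow 2 G} (hS : (S : Subgroup G) ≤ H)
    (hc : ∀ i j : ι, i ≠ j → ∀ x ∈ (S : Subgroup G) ⊓ F i, ∀ y ∈ (S : Subgroup G) ⊓ F j, ∀ g ∈ fam (fam𝒜 S F) (⊤ : Subgroup G),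
      g * x * g⁻¹ * y * (g * x * g⁻¹)⁻¹ * y⁻¹ ∈ Cfsg.oddCore G) : H = ⊤ := by
  haveI : Fact (Nat.Prime 2) := ⟨Nat.prime_two⟩
  obtain ⟨i, j, hij⟩ := exists_pair_ne ι
  obtain ⟨x, hx, -, -, ox, -⟩ := h.exists_two hS i
  obtain ⟨y, hy, -, -, oy, -⟩ := h.exists_two hS j
  set N : Subgroup G := fam (fam𝒜 S F) (⊤ : Subgroup G) with hN
  have hNn : N.Normal := by
    refine ⟨fun n hn g => ?_⟩
    have h1 : N ≤ N.comap (MulAut.conj g).toMonoidHom := by
      conv_lhs => rw [hN]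
      unfold fam
      rw [closure_le]
      rintro a ⟨⟨k, hk⟩, -⟩
      refine subset_closure ⟨⟨k * g⁻¹, ?_⟩, trivial⟩
      change k * g⁻¹ * (g * a * g⁻¹) * (k * g⁻¹)⁻¹ ∈ _
      have e : k * g⁻¹ * (g * a * g⁻¹) * (k * g⁻¹)⁻¹ = k * a * k⁻¹ := by group
      rw [e]
      exact hk
    exact h1 hn
  have hxN : x ∈ N := by
    refine subset_closure ⟨⟨1, ?_⟩, trivial⟩
    have e : 1 * x * 1⁻¹ = x := by group
    rw [e]
    exact ⟨hx.1, mem_iSup_of_mem i hx.2⟩
  -- `N ≤ H`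
  have hNH : N ≤ H := by
    intro g hg
    have h1 := h.oddCore_le (hc i j hij x hx y hy g hg)
    have h2 : (g * x * g⁻¹) * y * (g * x * g⁻¹)⁻¹ ∈ H := by
      have e : (g * x * g⁻¹) * y * (g * x * g⁻¹)⁻¹ = (g * x * g⁻¹ * y * (g * x * g⁻¹)⁻¹ * y⁻¹) * y := by group
      rw [e]
      exact H.mul_mem h1 (h.FH j hy.2)
    have h3 := h.sc_mem hy.2 (sq_of_orderOf oy) (ne_one_of_orderOf oy) h2
    exact h.sc_mem hx.2 (sq_of_orderOf ox) (ne_one_of_orderOf ox) h3
  -- Frattini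
  have hxp : IsPGroup 2 ((zpowers x).subgroupOf N) := by
    refine IsPGroup.comap_of_injective (Cfsg.Agent.UGT.SL.two_isPGroup (sq_of_orderOf ox)) N.subtype ?_
    exact N.subtype_injective
  obtain ⟨P, hP⟩ := hxp.exists_le_sylow
  have hfr := P.normalizer_sup_eq_top
  have h1 : normalizer (((P : Subgroup N).map N.subtype : Subgroup G) : Set G) ≤ H := by
    intro g hg
    have hxP : x ∈ (P : Subgroup N).map N.subtype := ⟨⟨x, hxN⟩, hP (by exact mem_zpowers x), rfl⟩
    have h2 := (mem_normalizer_iff.1 hg x).1 hxP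
    obtain ⟨z, -, hz⟩ := h2
    have h3 : g * x * g⁻¹ ∈ H := by
      rw [← hz]
      exact hNH z.2
    exact h.sc_mem hx.2 (sq_of_orderOf ox) (ne_one_of_orderOf ox) h3
  rw [eq_top_iff, ← hfr]
  exact sup_le h1 hNH

end Ctl

end Cfsg.Agent.UGT.Ctl
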